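import Cfsg.Agent.OddChar43.FeitSibley
import Cfsg.Agent.OddChar43.Link
import Cfsg.Agent.CharDeep.ZassInduced
import Cfsg.Agent.PermB.ZassOdd
import Cfsg.Agent.PermB.ZassPrelude
import Cfsg.Agent.Zassenhaus.Normal

/-!
# Feit's theorem on Zassenhaus groups with two-point stabilisers of odd order
-/

set_option autoImplicit false
set_option linter.style.haveILetI false
set_option linter.unusedSectionVars false

noncomputable section

open scoped ComplexConjugate BigOperators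
open Cfsg.Agent Cfsg.Agent.CharInd MulAction

namespace Cfsg.Agent.OddChar43

universe u v

theorem commutator_subgroupOf {X : Type u} [Group X] (K : Subgroup X) :
    ⁅K, K⁆.subgroupOf K = commutator K := by
  have e : (commutator K).map K.subtype = ⁅K, K⁆ := by
    rw [commutator_def, Subgroup.map_commutator, ← MonoidHom.range_eq_map, Subgroup.range_subtype]
  rw [← e, Subgroup.subgroupOf, Subgroup.comap_map_eq_self_of_injective K.subtype_injective]

/-- The exceptional conclusion of Feit's theorem. -/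
def ZExc {X : Type u} [Group X] (K : Subgroup X) (e : ℕ) : Prop :=
  IsPGroup 2 K ∧ (∃ a b : K, a * b ≠ b * a) ∧ (commutator K).index ≤ 4 * e ^ 2 + 1

theorem ZExc.of_equiv {X : Type u} [Group X] {Y : Type v} [Group Y] {K : Subgroup X} {K' : Subgroup Y}
    (f : K ≃* K') {e e' : ℕ} (he : e ≤ e') (h : ZExc K e) : ZExc K' e' := by
  obtain ⟨hp, ⟨a, b, hab⟩, hi⟩ := h
  refine ⟨hp.of_equiv f, ⟨f a, f b, fun hh => hab (f.injective (by rw [map_mul, map_mul, hh]))⟩, ?_⟩
  have e2 : (commutator K).map f.toMonoidHom = commutator K' := by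
    rw [commutator_def, commutator_def, Subgroup.map_commutator,
      Subgroup.map_top_of_surjective _ f.surjective]
  rw [← e2]
  exact (le_of_eq (Subgroup.index_map_equiv _ f)).trans (hi.trans (by gcongr))

theorem stabilizer_kernel {G : Type u} {Ω : Type v} [Group G] [MulAction G Ω] [Finite G] [Finite Ω]
    (hz : PermB.ZData G Ω) {a b : Ω} (hab : a ≠ b) {N : Subgroup G} (hN : PermB.IsKernel N a) :
    (N.subgroupOf (stabilizer G a)).Normal ∧
    (∀ n ∈ N.subgroupOf (stabilizer G a), n ≠ 1 →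
      Subgroup.centralizer ({n} : Set (stabilizer G a)) ≤ N.subgroupOf (stabilizer G a)) ∧
    (∀ g : G, g ∉ stabilizer G a → ∀ t ∈ N, g * t * g⁻¹ ∈ N → t = 1) := by
  refine ⟨⟨fun n hn g => hN.conj g g.2 n hn⟩, ?_, ?_⟩
  · intro n hn hn1 x hx
    have hn1' : (n : G) ≠ 1 := fun e => hn1 (Subtype.ext e)
    by_contra hxN
    obtain ⟨d, hda, hd⟩ : ∃ d, d ≠ a ∧ (x : G) • d = d := by
      by_contra hne
      push Not at hne
      exact hxN ((hz.mem_kernel_iff hN hab).2 ⟨x.2, Or.inr hne⟩)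
    have hxc : (x : G) * n * (x : G)⁻¹ = n := by
      rw [Subgroup.mem_centralizer_singleton_iff] at hx
      rw [mul_inv_eq_iff_eq_mul]
      exact (congrArg Subtype.val hx :)
    have h1 := hN.eq_one_of_commute hz hda (PermB.ZData.mem_H2.2 ⟨x.2, hd⟩) hn hn1' hxc
    exact hxN (Subgroup.mem_subgroupOf.2 (h1 ▸ N.one_mem))
  · intro g hg t ht h
    refine hN.eq_one ht (y := g⁻¹ • a) ?_ ?_
    · intro e
      exact hg (mem_stabilizer_iff.2 (inv_smul_eq_iff.1 e).symm)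
    · have := mem_stabilizer_iff.1 (hN.le h)
      rwa [mul_smul, mul_smul, ← eq_inv_smul_iff] at this

open Classical in
set_option maxHeartbeats 1600000 in
/-- Feit's theorem, when the kernel lies in no proper normal subgroup. -/
theorem zassenhaus_core {G : Type u} {Ω : Type v} [Group G] [Fintype G] [MulAction G Ω] [Fintype Ω]
    (hZ : Cfsg.IsZassenhausGroup G Ω) {a b : Ω} (hab : a ≠ b)
    (hodd : Odd (Nat.card (PermB.ZData.H2 (G := G) a b))) {N : Subgroup G} (hN : PermB.IsKernel N a)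
    (hmin : ∀ M : Subgroup G, M.Normal → N ≤ M → M = ⊤)
    (hbig : 2 * Nat.card (PermB.ZData.H2 (G := G) a b) < Nat.card N - 1) :
    ZExc N (Nat.card (PermB.ZData.H2 (G := G) a b)) := by
  have hz := PermB.zData_of_isZassenhausGroup hZ
  have h3 := PermB.three_le_card_of_isZassenhausGroup hZ
  obtain ⟨hKn, hC, hTI⟩ := stabilizer_kernel hz hab hN
  obtain ⟨e, he⟩ : ∃ e, e = Nat.card (PermB.ZData.H2 (G := G) a b) := ⟨_, rfl⟩
  obtain ⟨h, hh⟩ : ∃ h, h = Nat.card N := ⟨_, rfl⟩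
  rw [← he, ← hh] at hbig
  rw [← he]
  have hα : Nat.card Ω = h + 1 := by rw [hh, hN.card_add_one hab.symm]
  have he1 : 1 < e := by
    obtain ⟨g, hg, c, d, hcd, hc, hd⟩ := hZ.2.2.2.1
    rw [he, hz.card_H2_eq hcd hab]
    haveI : Nontrivial (PermB.ZData.H2 (G := G) c d) :=
      ⟨⟨⟨g, PermB.ZData.mem_H2.2 ⟨hc, hd⟩⟩, 1, fun e => hg (congrArg Subtype.val e)⟩⟩
    exact Finite.one_lt_card
  set L : Subgroup G := stabilizer G a with hL
  set K : Subgroup L := N.subgroupOf L with hK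
  have hKcard : Nat.card K = h := by
    rw [hh]; exact Nat.card_congr (Subgroup.subgroupOfEquivOfLe hN.le).toEquiv
  have hLcard : Nat.card L = h * e := by
    rw [hz.card_stabilizer hab, hα, he, Nat.add_sub_cancel]
  have hKindex : K.index = e := by
    have := Subgroup.card_mul_index K
    rw [hKcard, hLcard] at this
    exact Nat.eq_of_mul_eq_mul_left (by omega) this
  have hK1 : K ≠ ⊥ := fun e' => by rw [e', Subgroup.card_bot] at hKcard; omega
  have hKtop : K ≠ ⊤ := fun e' => by rw [e', Subgroup.index_top] at hKindex; omega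
  have hKL : K < ⊤ := lt_top_iff_ne_top.2 hKtop
  have hmap : K.map L.subtype = N := Subgroup.map_subgroupOf_eq_of_le hN.le
  have hTI' : KerTI L K := fun g hg t ht h' => by
    rw [hmap] at ht h'
    exact hTI g hg t ht h'
  have hnorm : Subgroup.normalizer (K.map L.subtype : Set G) = L := by
    rw [hmap]
    refine le_antisymm (fun g hg => ?_) (fun g hg => ?_)
    · by_contra hgL
      obtain ⟨w, hw⟩ := Subgroup.ne_bot_iff_exists_ne_one.1
        (show N ≠ ⊥ from fun e' => by rw [e', Subgroup.card_bot] at hh; omega)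
      exact hw (Subtype.ext (hTI g hgL w w.2 ((Subgroup.mem_normalizer_iff.1 hg w).1 w.2)))
    · rw [Subgroup.mem_normalizer_iff]
      refine fun u => ⟨fun hu => hN.conj g hg u hu, fun hu => ?_⟩
      have := hN.conj g⁻¹ (L.inv_mem hg) _ hu
      simpa [mul_assoc] using this
  -- the two-point stabiliser is cyclic and inverted by the swappers
  have hedvd : e ∣ h - 1 := by
    haveI := hz.isPretransitive
    have h' := hN.dvd_card_invariant hz hab.symm ((Finset.univ.filter fun u => u ∈ N).erase 1)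
      (fun u hu => by simpa [and_comm] using hu)
      (fun x hx u hu => by
        simp only [Finset.mem_erase, Finset.mem_filter, Finset.mem_univ, true_and] at hu ⊢
        refine ⟨fun e => hu.1 ?_, hN.conj x (PermB.ZData.mem_H2.1 hx).1 u hu.2⟩
        rw [show u = x⁻¹ * (x * u * x⁻¹) * x by group, e]; group)
    rwa [Finset.card_erase_of_mem (by simp), ← Fintype.card_subtype, ← Nat.card_eq_fintype_card,
      ← he, show Nat.card {u // u ∈ N} - 1 = h - 1 by rw [hh]] at h'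
  obtain ⟨hEcyc, hinv⟩ := hz.odd_H2_cyclic h3 hab hodd (by
    rintro q hq hqd ⟨P, M, hMn, hMc⟩
    haveI := Fact.mk hq
    have hqe : q ∣ e := he ▸ hqd
    have hM : N ≤ M := by
      intro u hu
      rw [← QuotientGroup.eq_one_iff, ← orderOf_eq_one_iff]
      obtain ⟨i, hi⟩ := IsPGroup.iff_card.1 P.isPGroup'
      refine Nat.eq_one_of_dvd_coprimes (Nat.Coprime.pow_left i ?_)
        (show orderOf (u : G ⧸ M) ∣ q ^ i from ?_) (show orderOf (u : G ⧸ M) ∣ h from ?_)
      · rw [hq.coprime_iff_not_dvd]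
        intro hqh
        have h1 := Nat.dvd_sub hqh (hqe.trans hedvd)
        rw [show h - (h - 1) = 1 by omega] at h1
        exact hq.not_dvd_one h1
      · rw [← hi, ← hMc.symm.index_eq_card, Subgroup.index]
        exact orderOf_dvd_natCard _
      · rw [hh]
        exact (orderOf_map_dvd (QuotientGroup.mk' M) u).trans (Subgroup.orderOf_dvd_natCard N hu)
    have hP1 : Nat.card (P : Subgroup G) = 1 := by
      rw [← hMc.symm.index_eq_card, hmin M hMn hM, Subgroup.index_top]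
    have h2 : q ∣ Nat.card (P : Subgroup G) :=
      P.dvd_card_of_dvd_card (hqd.trans (Subgroup.card_subgroup_dvd_card _))
    rw [hP1] at h2
    exact hq.not_dvd_one h2)
  haveI := hEcyc
  have hsw : CharDeep.ZC.SwapInvol G Ω := by
    intro g p q hpq hgp hgq
    obtain ⟨k, hka, hkb⟩ := hz.two hab hpq
    obtain ⟨s, hs, hsa, hsb⟩ := hz.exists_involution_swap hab
    have hss : s * s = 1 := by rw [← sq, ← hs, pow_orderOf_eq_one]
    obtain ⟨g', hg'⟩ : ∃ g', g' = k⁻¹ * g * k := ⟨_, rfl⟩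
    have hga : g' • a = b := by
      rw [hg', mul_smul, mul_smul, hka, hgp, inv_smul_eq_iff, hkb]
    have hgb : g' • b = a := by
      rw [hg', mul_smul, mul_smul, hkb, hgq, inv_smul_eq_iff, hka]
    have hx : s⁻¹ * g' ∈ PermB.ZData.H2 (G := G) a b := PermB.ZData.mem_H2.2
      ⟨by rw [mul_smul, hga, inv_smul_eq_iff, hsa], by rw [mul_smul, hgb, inv_smul_eq_iff, hsb]⟩
    have h1 := hinv s hsa hsb _ hx
    have h2 : g' * g' = 1 := by
      calc g' * g' = (s * (s⁻¹ * g') * s⁻¹) * (s * s) * (s⁻¹ * g') := by group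
        _ = 1 := by rw [h1, hss, mul_one, inv_mul_cancel]
    calc g * g = k * (g' * g') * k⁻¹ := by rw [hg']; group
      _ = 1 := by rw [h2]; group
  -- coherence, or the exception
  have hiso := ti_isometry L K (K.map L.subtype : Set G) (mem_map_coe L K) hTI'
  rw [← kerFree_eq_iia K hC] at hiso
  have hne : Nat.card K ≠ K.index + 1 := by rw [hKcard, hKindex]; omega
  by_contra hnot
  have hnil : Group.IsNilpotent K := kernel_isNilpotent K hKL hC
  have hcoh : Cfsg.IsCoherent (kerFree K) {1}ᶜ (fun α : L → ℂ => Cfsg.indFun L α) := by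
    rcases S1535.result (N := L) (G := G) K hK1 hKtop hC hne (fun α : L → ℂ => Cfsg.indFun L α) hiso
      (fun α hα => CharInd.indFun_one_eq_zero L (mem_zspanOn_one.1 hα).2) with
      hcoh | ⟨p, hp, ⟨m, hm⟩, hnc, hle⟩
    · exact hcoh
    rw [commutator_subgroupOf] at hle
    by_cases hp2 : p = 2
    · subst hp2
      refine absurd (ZExc.of_equiv (Subgroup.subgroupOfEquivOfLe hN.le) le_rfl
        (show ZExc K e from ⟨IsPGroup.of_card hm, ?_, ?_⟩)) hnot
      · by_contra hc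
        push Not at hc
        exact hnc ⟨⟨hc⟩⟩
      · rwa [hKindex] at hle
    · have hoddL : Odd (Nat.card L) := by
        rw [← Subgroup.card_mul_index K, hm, hKindex, he]
        exact ((hp.odd_of_ne_two hp2).pow).mul hodd
      rw [kerFree_eq_iia K hC]
      exact frob_ti_coherent L K hnil hoddL hK1 hKL hC hTI' hnorm
  rw [kerFree_eq_iia K hC] at hcoh hiso
  obtain ⟨-, ν, hν, hνα⟩ := hcoh
  have hν' : Cfsg.IsLinearIsometryOn ((Submodule.span ℤ (Cfsg.inducedIrrAbove K ⊥) :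
      Submodule ℤ (L → ℂ)) : Set (L → ℂ)) ν := hν
  haveI := hnil
  have hsolv : Group.IsSolvable K := inferInstance
  obtain ⟨S, hS⟩ : ∃ F : Finset (L → ℂ), (F : Set (L → ℂ)) = Cfsg.inducedIrrAbove K ⊥ :=
    ⟨_, (iia_finite K ⊥).coe_toFinset⟩
  have hSm : ∀ χ, χ ∈ S ↔ χ ∈ Cfsg.inducedIrrAbove K ⊥ := fun χ => by rw [← hS, Finset.mem_coe]
  have hirr : ∀ χ ∈ S, Cfsg.IsIrrCharacter L χ := by
    intro χ hχ
    obtain ⟨θ, hθ, hne', -, rfl⟩ := (hSm χ).1 hχ
    exact indFun_irr_of_fpf K hC hθ hne'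
  choose! d hdpos hd using fun χ (hχ : χ ∈ S) => iia_degree K ((hSm χ).1 hχ)
  have hd' : ∀ χ ∈ S, χ 1 = (e : ℂ) * (d χ : ℂ) := fun χ hχ => by
    rw [hd χ hχ, Nat.cast_mul, hKindex]
  obtain ⟨χ₁, hχ₁m, hχ₁1⟩ := iia_nonempty K hsolv ⊥ (bot_lt_iff_ne_bot.2 hK1)
  have hχ₁ : χ₁ ∈ S := (hSm _).2 hχ₁m
  have he0 : (e : ℂ) ≠ 0 := Nat.cast_ne_zero.2 (by omega)
  have hd1 : d χ₁ = 1 := by
    have := hd χ₁ hχ₁
    rw [hχ₁1] at this
    exact (mul_left_cancel₀ K.index_ne_zero_of_finite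
      (show K.index * 1 = K.index * d χ₁ by rw [mul_one]; exact_mod_cast this)).symm
  have mS : ∀ χ ∈ S, χ ∈ Submodule.span ℤ (Cfsg.inducedIrrAbove K ⊥) := fun χ hχ =>
    Submodule.subset_span ((hSm χ).1 hχ)
  obtain ⟨t, ht⟩ : ∃ t, t = ∑ χ ∈ S, d χ ^ 2 := ⟨_, rfl⟩
  have hte : h - 1 = e * t := by
    have h1 := sum_sq_div_norm K ⊥ S hS
    rw [Subgroup.relIndex_bot_left, hKcard, hKindex] at h1
    have h2 : (e : ℂ) ^ 2 * (t : ℂ) = (e : ℂ) * ((h : ℂ) - 1) := by
      rw [← h1, ht, Nat.cast_sum, Finset.mul_sum]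
      refine Finset.sum_congr rfl fun χ hχ => ?_
      rw [irr_self (hirr χ hχ), div_one, hd' χ hχ]
      push_cast; ring
    have h3 : (e : ℂ) * (t : ℂ) + 1 = (h : ℂ) := by
      have := mul_left_cancel₀ he0 (show (e : ℂ) * ((e : ℂ) * t) = (e : ℂ) * ((h : ℂ) - 1) by
        rw [← h2]; ring)
      rw [this]; ring
    have h4 : e * t + 1 = h := by exact_mod_cast h3
    omega
  have ht3 : 3 ≤ t := by
    by_contra hlt
    have : e * t ≤ e * 2 := Nat.mul_le_mul_left _ (by omega)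
    omega
  have hhte : h = e * t + 1 := by omega
  -- differences
  let δ : (L → ℂ) → (L → ℂ) := fun χ => χ - (d χ : ℤ) • χ₁
  have hδ : ∀ χ ∈ S, δ χ ∈ Cfsg.zspanOn (Cfsg.inducedIrrAbove K ⊥) {1}ᶜ := fun χ hχ =>
    mem_zspanOn_one.2 ⟨sub_mem (mS χ hχ) (Submodule.smul_mem _ _ (mS χ₁ hχ₁)), by
      simp only [δ, Pi.sub_apply, Pi.smul_apply, zsmul_eq_mul, hd' χ hχ, hd' χ₁ hχ₁, hd1]
      simp [hd' χ₁ hχ₁, hd1]
      push_cast; ring⟩
  have hνδ : ∀ χ ∈ S, ν χ - (d χ : ℤ) • ν χ₁ = Cfsg.indFun L (δ χ) := fun χ hχ => by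
    rw [← iso_zsmul hν' (mS χ₁ hχ₁), ← iso_sub hν' (mS χ hχ) (Submodule.smul_mem _ _ (mS χ₁ hχ₁))]
    exact hνα _ (hδ χ hχ)
  have hνo : ∀ χ ∈ S, ∀ η ∈ S, Cfsg.classInner (ν χ) (ν η) = if χ = η then 1 else 0 :=
    fun χ hχ η hη => by rw [iso_inner hν' (mS χ hχ) (mS η hη), irr_ortho (hirr χ hχ) (hirr η hη)]
  have hνcf : ∀ χ ∈ S, Cfsg.IsClassFunction G (ν χ) := fun χ hχ =>
    genChar_isClassFunction (iso_gen hν' (mS χ hχ))
  have hres : ∀ χ ∈ S, ∀ φ : G → ℂ, Cfsg.IsClassFunction G φ →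
      Cfsg.classInner φ (ν χ) - (d χ : ℂ) * Cfsg.classInner φ (ν χ₁) =
        Cfsg.classInner (fun x : L => φ x) χ - (d χ : ℂ) * Cfsg.classInner (fun x : L => φ x) χ₁ := by
    intro χ hχ φ hφ
    have h1 : Cfsg.classInner φ (ν χ - (d χ : ℤ) • ν χ₁) =
        Cfsg.classInner (fun x : L => φ x) (δ χ) := by
      rw [hνδ χ hχ, classInner_indFun_right L _ hφ]
    simp only [δ, CharInd.classInner_sub_right, ci_zsmul_right] at h1
    simpa using h1
  -- values of the functions induced from the linear characters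
  let Λ : (L →* ℂˣ) → (G → ℂ) := fun f => Cfsg.indFun L (fun u : L => (f u : ℂ))
  let Triv : (L →* ℂˣ) → Prop := fun f => ∀ u : L, u ∈ K → f u = 1
  have hΛv : ∀ f, Triv f → ∀ x : L, Λ f x =
      if x = 1 then (Nat.card Ω : ℂ) else if (x : G) ∈ N then 1 else (f x : ℂ) + conj (f x : ℂ) :=
    fun f hf x => CharDeep.ZC.indFun_linear_apply hz hab hsw hN f (fun u hu => hf u hu) x
  have hΛgen : ∀ f, Cfsg.IsGeneralizedCharacter G (Λ f) := fun f => isGen_of_isCharacter
    (isCharacter_indFun L (Char.isCharacter_of_irr (Char.isIrrCharacter_monoidHom f)))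
  have hΛcf : ∀ f, Cfsg.IsClassFunction G (Λ f) := fun f => genChar_isClassFunction (hΛgen f)
  have hΛzero : ∀ (f : L →* ℂˣ) (g : G), (∀ c : Ω, g • c ≠ c) → Λ f g = 0 := by
    intro f g hg
    show Cfsg.indFun L _ g = 0
    rw [indFun_apply, Finset.sum_eq_zero, mul_zero]
    intro y _
    refine extendByZero_notMem L _ fun hmem => hg (y • a) ?_
    have := mem_stabilizer_iff.1 hmem
    rwa [mul_smul, mul_smul, inv_smul_eq_iff] at this
  have hΛirr : ∀ f, Triv f → f ≠ 1 → Cfsg.IsIrrCharacter G (Λ f) := fun f hf hf1 =>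
    CharDeep.ZC.indFun_linear_irr hz hab hodd hsw hN f (fun u hu => hf u hu) hf1
  have hΛδ : ∀ f, Triv f → ∀ χ ∈ S, Cfsg.classInner (fun x : L => Λ f x) (δ χ) = 0 := by
    intro f hf χ hχ
    obtain ⟨hm1, hm2⟩ := mem_zspanOn_one.1 (hδ χ hχ)
    have h1 : Cfsg.classInner (fun x : L => Λ f x) (δ χ) = Cfsg.classInner (fun _ : L => (1 : ℂ)) (δ χ) := by
      simp only [Cfsg.classInner]
      congr 1
      refine Finset.sum_congr rfl fun x _ => ?_
      by_cases hx1 : x = 1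
      · simp [hx1, hm2]
      by_cases hxK : x ∈ K
      · rw [hΛv f hf x, if_neg hx1, if_pos (Subgroup.mem_subgroupOf.1 hxK)]
      · simp [iia_supp K hm1 hxK]
    rw [h1]
    simp only [δ, CharInd.classInner_sub_right, ci_zsmul_right,
      irr_ne Char.isIrrCharacter_const_one (hirr χ hχ) (iia_ne_one K hKL ((hSm χ).1 hχ)).symm,
      irr_ne Char.isIrrCharacter_const_one (hirr χ₁ hχ₁) (iia_ne_one K hKL hχ₁m).symm]
    simp
  have hΛnorm : ∀ f, Triv f → ∃ n : ℤ, n ≤ 2 ∧ Cfsg.classInner (Λ f) (Λ f) = n := by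
    intro f hf
    by_cases hf1 : f = 1
    · refine ⟨2, le_rfl, ?_⟩
      subst hf1
      rw [show Cfsg.classInner (Λ 1) (Λ 1) = Cfsg.classInner (fun x : L => Λ 1 x)
        (fun u : L => ((1 : L →* ℂˣ) u : ℂ)) from classInner_indFun_right L _ (hΛcf 1)]
      simp only [Cfsg.classInner, MonoidHom.one_apply, Units.val_one, map_one, mul_one]
      rw [inv_mul_eq_iff_eq_mul₀ CharInd.natCard_ne_zero]
      have hpt : ∀ x : L, Λ 1 x = 2 + (if x ∈ K then (-1 : ℂ) else 0) +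
          (if x = 1 then (Nat.card Ω : ℂ) - 1 else 0) := by
        intro x
        rw [hΛv 1 (fun _ _ => rfl) x]
        by_cases hx1 : x = 1
        · subst hx1
          rw [if_pos rfl, if_pos rfl, if_pos K.one_mem]; ring
        by_cases hxK : x ∈ K
        · rw [if_neg hx1, if_neg hx1, if_pos hxK, if_pos (Subgroup.mem_subgroupOf.1 hxK)]; norm_num
        · rw [if_neg hx1, if_neg hx1, if_neg hxK, if_neg (fun e' => hxK (Subgroup.mem_subgroupOf.2 e'))]
          simp; norm_num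
      rw [Finset.sum_congr rfl fun x _ => hpt x, Finset.sum_add_distrib, Finset.sum_add_distrib,
        Finset.sum_ite_eq', if_pos (Finset.mem_univ _), ← Finset.sum_filter, Finset.sum_const,
        Finset.sum_const, Finset.card_univ, ← Fintype.card_subtype, ← Nat.card_eq_fintype_card,
        ← Nat.card_eq_fintype_card, show Nat.card {x : L // x ∈ K} = h from hKcard, hα]
      simp only [nsmul_eq_mul]
      push_cast; ring
    · exact ⟨1, by norm_num, by rw [irr_self (hΛirr f hf hf1)]; simp⟩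
  have hΛν : ∀ f, Triv f → ∀ χ ∈ S, Cfsg.classInner (Λ f) (ν χ) = 0 := by
    intro f hf
    obtain ⟨n, hn2, hn⟩ := hΛnorm f hf
    obtain ⟨m, hm⟩ := isGen_ci_int (hΛgen f) (iso_gen hν' (mS χ₁ hχ₁))
    have hall : ∀ χ ∈ S, Cfsg.classInner (Λ f) (ν χ) = (((d χ : ℤ) * m : ℤ) : ℂ) := by
      intro χ hχ
      have h1 := hres χ hχ (Λ f) (hΛcf f)
      have h2 := hΛδ f hf χ hχ
      simp only [δ, CharInd.classInner_sub_right, ci_zsmul_right, Int.cast_natCast] at h2
      rw [h2, hm] at h1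
      push_cast
      linear_combination h1
    have hb := bessel S ν (Λ f) (fun χ => (d χ : ℤ) * m) (fun i hi j hj => by convert hνo i hi j hj) hall hn
    have h3 : ∑ χ ∈ S, ((d χ : ℤ) * m) ^ 2 = (t : ℤ) * m ^ 2 := by
      rw [ht]; push_cast; rw [Finset.sum_mul]
      exact Finset.sum_congr rfl fun χ _ => mul_pow _ _ _
    rw [h3] at hb
    have hm0 : m = 0 := by
      by_contra hne'
      have h5 : 1 ≤ m ^ 2 := by have := sq_pos_of_ne_zero hne'; omega
      have h6 : (3 : ℤ) ≤ t := by exact_mod_cast ht3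
      nlinarith
    intro χ hχ
    rw [hall χ hχ, hm0]; simp
  -- irreducible characters of the stabiliser
  have hlin : ∀ θ : Cfsg.IrrCharacter L, (θ : L → ℂ) ∉ S →
      ∃ f : L →* ℂˣ, Triv f ∧ (θ : L → ℂ) = fun u => (f u : ℂ) := by
    intro θ hθ
    have hker : ∀ u ∈ K, (θ : L → ℂ) u = (θ : L → ℂ) 1 := by
      by_contra hc
      push Not at hc
      exact hθ ((hSm _).2 (kerFree_eq_iia K hC ▸ (show (θ : L → ℂ) ∈ kerFree K from ⟨θ.2, hc⟩)))
    obtain ⟨μ, hμ, hμθ⟩ := Char.irr_exists_descend θ.2 K hker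
    have hcomm : ∀ x y : L ⧸ K, x * y = y * x := by
      intro x y
      obtain ⟨x, rfl⟩ := QuotientGroup.mk_surjective x
      obtain ⟨y, rfl⟩ := QuotientGroup.mk_surjective y
      obtain ⟨u, hu, k, hk, hxe⟩ := hN.exists_mul hab.symm (show (x : G) • a = a from x.2)
      obtain ⟨v, hv, l, hl, hye⟩ := hN.exists_mul hab.symm (show (y : G) • a = a from y.2)
      have hkL : k ∈ L := (PermB.ZData.mem_H2.1 hk).1
      have hlL : l ∈ L := (PermB.ZData.mem_H2.1 hl).1
      have e1 : (x : L ⧸ K) = ((⟨k, hkL⟩ : L) : L ⧸ K) := by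
        rw [show x = ⟨u, hN.le hu⟩ * ⟨k, hkL⟩ from Subtype.ext hxe, QuotientGroup.mk_mul,
          (QuotientGroup.eq_one_iff (⟨u, hN.le hu⟩ : L)).2 hu, one_mul]
      have e2 : (y : L ⧸ K) = ((⟨l, hlL⟩ : L) : L ⧸ K) := by
        rw [show y = ⟨v, hN.le hv⟩ * ⟨l, hlL⟩ from Subtype.ext hye, QuotientGroup.mk_mul,
          (QuotientGroup.eq_one_iff (⟨v, hN.le hv⟩ : L)).2 hv, one_mul]
      letI := IsCyclic.commGroup (α := PermB.ZData.H2 (G := G) a b)
      have hkl : k * l = l * k :=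
        congrArg Subtype.val (mul_comm (⟨k, hk⟩ : PermB.ZData.H2 (G := G) a b) ⟨l, hl⟩)
      rw [e1, e2, ← QuotientGroup.mk_mul, ← QuotientGroup.mk_mul]
      exact congrArg _ (Subtype.ext hkl)
    have h1 : (θ : L → ℂ) 1 = 1 := by
      rw [hμθ 1, QuotientGroup.mk_one, Char.irr_degree_one_of_comm hcomm hμ]
    obtain ⟨f, hf⟩ := Char.exists_monoidHom_of_degree_one (Char.isCharacter_of_irr θ.2) h1
    refine ⟨f, fun u hu => Units.val_eq_one.1 ?_, funext hf⟩
    rw [← hf u, hker u hu, h1]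
  have hdecomp : ∀ φ : G → ℂ, Cfsg.IsClassFunction G φ →
      (∀ f, Triv f → Cfsg.classInner φ (Λ f) = 0) →
      φ 1 = ∑ χ ∈ S, Cfsg.classInner (fun x : L => φ x) χ * χ 1 := by
    intro φ hφ h0
    have hcf : Cfsg.IsClassFunction L (fun x : L => φ x) := fun x y => hφ x y
    have e1 := congrFun (Char.eq_sum_classInner_smul hcf) 1
    simp only [OneMemClass.coe_one, Finset.sum_apply, Pi.smul_apply, smul_eq_mul] at e1
    rw [e1, ← Finset.sum_filter_add_sum_filter_not Finset.univ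
      (fun θ : Cfsg.IrrCharacter L => (θ : L → ℂ) ∈ S)]
    have hz0 : ∑ θ ∈ Finset.univ.filter (fun θ : Cfsg.IrrCharacter L => ¬ (θ : L → ℂ) ∈ S),
        Cfsg.classInner (fun x : L => φ x) (θ : L → ℂ) * (θ : L → ℂ) 1 = 0 := by
      refine Finset.sum_eq_zero fun θ hθ => ?_
      obtain ⟨f, hf, hfe⟩ := hlin θ (Finset.mem_filter.1 hθ).2
      rw [hfe, ← classInner_indFun_right L _ hφ]
      show Cfsg.classInner φ (Λ f) * _ = 0
      rw [h0 f hf, zero_mul]
    rw [hz0, add_zero]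
    refine Finset.sum_bij (fun θ _ => (θ : L → ℂ)) (fun θ hθ => (Finset.mem_filter.1 hθ).2)
      (fun θ _ θ' _ h' => Subtype.ext h') (fun χ hχ => ⟨⟨χ, hirr χ hχ⟩,
        Finset.mem_filter.2 ⟨Finset.mem_univ _, hχ⟩, rfl⟩) (fun θ _ => rfl)
  have hsumd : ∑ χ ∈ S, (d χ : ℂ) * ((e : ℂ) * d χ) = (e : ℂ) * (t : ℂ) := by
    rw [ht, Nat.cast_sum, Finset.mul_sum]
    exact Finset.sum_congr rfl fun χ _ => by push_cast; ring
  -- the exceptional characters
  have hsig : ∀ χ ∈ S, ∃ (ε : ℤ) (μ : Cfsg.IrrCharacter G), (ε = 1 ∨ ε = -1) ∧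
      ν χ = ε • (μ : G → ℂ) := by
    intro χ hχ
    obtain ⟨ε, μ, hε, hμ, hεμ⟩ := isGen_norm_one (iso_gen hν' (mS χ hχ))
      (by rw [hνo χ hχ χ hχ, if_pos rfl])
    exact ⟨ε, ⟨μ, hμ⟩, hε, hεμ⟩
  haveI : Nonempty (Cfsg.IrrCharacter G) := ⟨⟨fun _ => 1, Char.isIrrCharacter_const_one⟩⟩
  choose! sg X hsg hX using hsig
  let Ex : Finset (Cfsg.IrrCharacter G) := S.image X
  have hXinj : ∀ χ ∈ S, ∀ η ∈ S, X χ = X η → χ = η := by
    intro χ hχ η hη hh'
    by_contra hne'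
    have h1 := hνo χ hχ η hη
    rw [if_neg hne', hX χ hχ, hX η hη, hh', ci_zsmul_left, ci_zsmul_right, irr_self (X η).2,
      mul_one] at h1
    have h2 : (sg χ : ℤ) * sg η = 0 := by exact_mod_cast h1
    rcases hsg χ hχ with a1 | a1 <;> rcases hsg η hη with a2 | a2 <;> rw [a1, a2] at h2 <;> omega
  have hnonex : ∀ φ : Cfsg.IrrCharacter G, φ ∉ Ex → ∀ χ ∈ S,
      Cfsg.classInner (φ : G → ℂ) (ν χ) = 0 := by
    intro φ hφ χ hχ
    rw [hX χ hχ, ci_zsmul_right, irr_ne φ.2 (X χ).2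
      (fun e' => hφ (Finset.mem_image.2 ⟨χ, hχ, (Subtype.ext e').symm⟩)), mul_zero]
  -- every other character meets a function induced from a linear character
  have hmeet : ∀ φ : Cfsg.IrrCharacter G, φ ∉ Ex →
      ∃ f, Triv f ∧ Cfsg.classInner (φ : G → ℂ) (Λ f) ≠ 0 := by
    intro φ hφ
    by_contra hcon
    push Not at hcon
    have hφc := Char.irr_isClassFunction φ.2
    obtain ⟨c, hc⟩ := isGen_ci_int (isGen_of_isCharacter
      (Char.isCharacter_restrict (Char.isCharacter_of_irr φ.2) L)) (isGen_irr (hirr χ₁ hχ₁))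
    obtain ⟨D, hD0, hD, hDdvd⟩ := Char.irr_degree_dvd_card φ.2
    have hdeg : (φ : G → ℂ) 1 = (c : ℂ) * ((e : ℂ) * t) := by
      rw [hdecomp _ hφc hcon, ← hsumd, Finset.mul_sum]
      refine Finset.sum_congr rfl fun χ hχ => ?_
      have h1 := hres χ hχ _ hφc
      rw [hnonex φ hφ χ hχ, hnonex φ hφ χ₁ hχ₁, hc, hd' χ hχ] at *
      linear_combination -((e : ℂ) * d χ) * h1
    rw [hD] at hdeg
    have hDi : (D : ℤ) = c * ((e : ℤ) * t) := by exact_mod_cast hdeg
    have hdvd : e * t ∣ D := Int.natCast_dvd_natCast.1 ⟨c, by rw [hDi]; push_cast; ring⟩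
    have hG : Nat.card G = (h + 1) * (h * e) := by
      rw [hz.card_group hab, hα, Nat.add_sub_cancel, ← he]
    have h1 : e * t ∣ e * ((h + 1) * h) := by
      refine (hdvd.trans hDdvd).trans (dvd_of_eq ?_)
      rw [hG]; ring
    have h2 : t ∣ (h + 1) * h := Nat.dvd_of_mul_dvd_mul_left (by omega) h1
    have hco : Nat.Coprime t h := by
      rw [hhte, Nat.coprime_comm]
      have : e * t + 1 = 1 + e * t := by ring
      rw [this, Nat.coprime_add_mul_right_left]
      exact Nat.coprime_one_left t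
    have h3 : t ∣ h + 1 := hco.dvd_of_dvd_mul_right h2
    have h4 : t ∣ 2 := by
      have := Nat.dvd_sub h3 (Dvd.intro_left e rfl)
      rwa [show h + 1 - e * t = 2 by omega] at this
    have := Nat.le_of_dvd two_pos h4
    omega
  -- a fixed-point-free element
  obtain ⟨g, hg⟩ : ∃ g : G, ∀ c : Ω, g • c ≠ c := by
    by_contra hcon
    push Not at hcon
    have hsum := CharDeep.ZC.sum_card_fixF hz hab
    have hlt : ∑ _g : G, 1 < ∑ g : G, (CharDeep.ZC.fixF (α := Ω) g).card := by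
      refine Finset.sum_lt_sum (fun g _ => ?_) ⟨1, Finset.mem_univ _, ?_⟩
      · obtain ⟨c, hc⟩ := hcon g
        exact Finset.card_pos.2 ⟨c, CharDeep.ZC.mem_fixF.2 hc⟩
      · rw [CharDeep.ZC.fixF_one, Finset.card_univ, ← Nat.card_eq_fintype_card]
        omega
    rw [hsum, ← Finset.card_eq_sum_ones, Finset.card_univ, Nat.card_eq_fintype_card] at hlt
    omega
  have hg1 : g ≠ 1 := fun e' => hg a (by rw [e', one_smul])
  -- the permutation character
  let oG : Cfsg.IrrCharacter G := ⟨fun _ => 1, Char.isIrrCharacter_const_one⟩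
  have hΛ1one : Cfsg.classInner (Λ 1) (fun _ => 1) = 1 := by
    show Cfsg.classInner (Cfsg.indFun L _) _ = 1
    rw [classInner_indFun_left L _ (isClassFunction_one G)]
    simp only [MonoidHom.one_apply, Units.val_one]
    exact irr_self Char.isIrrCharacter_const_one
  have hΛ1deg : Λ 1 1 = (h : ℂ) + 1 := by
    have := hΛv 1 (fun _ _ => rfl) 1
    rw [if_pos rfl, Subgroup.coe_one, hα] at this
    exact_mod_cast this
  obtain ⟨n₁, hn₁2, hn₁⟩ := hΛnorm 1 (fun _ _ => rfl)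
  have hperm : ∀ φ : Cfsg.IrrCharacter G, φ ≠ oG → Cfsg.classInner (Λ 1) (φ : G → ℂ) ≠ 0 →
      (φ : G → ℂ) = Λ 1 - (fun _ => (1 : ℂ)) := by
    intro φ hφ hne'
    obtain ⟨m, hm⟩ := isGen_ci_int (hΛgen 1) (isGen_irr φ.2)
    have hne1 : (φ : G → ℂ) ≠ fun _ => 1 := fun e' => hφ (Subtype.ext e')
    have hb := bessel ({oG, φ} : Finset (Cfsg.IrrCharacter G)) (fun x => (x : G → ℂ)) (Λ 1)
      (fun x => if x = oG then 1 else m)
      (fun x _ y _ => by
        rw [irr_ortho x.2 y.2]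
        convert if_congr (Subtype.ext_iff (a1 := x) (a2 := y)).symm (rfl : (1 : ℂ) = 1) (rfl : (0 : ℂ) = 0))
      (fun x hx => by
        rcases Finset.mem_insert.1 hx with rfl | hx
        · rw [if_pos rfl]; simpa using hΛ1one
        · rw [Finset.mem_singleton] at hx; subst hx; rw [if_neg hφ, hm]) hn₁
    rw [Finset.sum_pair (Ne.symm hφ), if_pos rfl, if_neg hφ] at hb
    have hm1 : m = 1 := by
      have h0 : m ≠ 0 := fun e' => hne' (by rw [hm, e']; simp)
      have h2 : m ^ 2 ≤ 1 := by omega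
      have h2' : -1 ≤ m ∧ m ≤ 1 := by constructor <;> nlinarith
      rcases (show m = 1 ∨ m = -1 by omega) with e' | e'
      · exact e'
      · exfalso
        obtain ⟨s, hs⟩ := Char.isCharacter_classInner_nat (isCharacter_indFun L
          (Char.isCharacter_of_irr (Char.isIrrCharacter_monoidHom (1 : L →* ℂˣ)))) φ
        rw [hm, e'] at hs
        have : (-1 : ℤ) = s := by exact_mod_cast hs
        omega
    have hn2' : n₁ = 2 := by
      rw [hm1] at hb; omega
    have h0 : Λ 1 - (fun _ => (1 : ℂ)) - (φ : G → ℂ) = 0 := by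
      apply ci_self_eq_zero
      simp only [CharInd.classInner_sub_left, CharInd.classInner_sub_right, hn₁, hn2', hΛ1one,
        irr_self φ.2, irr_self Char.isIrrCharacter_const_one, hm, hm1,
        irr_ne Char.isIrrCharacter_const_one φ.2 (Ne.symm hne1),
        irr_ne φ.2 Char.isIrrCharacter_const_one hne1,
        ← CharInd.classInner_swap (Λ 1) (φ : G → ℂ),
        ← CharInd.classInner_swap (Λ 1) (fun _ => (1 : ℂ))]
      simp; norm_num
    exact (sub_eq_zero.1 h0).symm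
  obtain ⟨th, hth, hth0⟩ : ∃ th : Cfsg.IrrCharacter G, th ≠ oG ∧
      Cfsg.classInner (Λ 1) (th : G → ℂ) ≠ 0 := by
    by_contra hcon
    push Not at hcon
    have e1 := congrFun (Char.eq_sum_classInner_smul (hΛcf 1)) g
    rw [hΛzero 1 g hg, Finset.sum_apply, Finset.sum_eq_single oG
      (fun x _ hx => by rw [Pi.smul_apply, hcon x hx, zero_smul])
      (fun hx => absurd (Finset.mem_univ _) hx)] at e1
    simp [oG, hΛ1one] at e1
  have hthe := hperm th hth hth0
  have hthg : (th : G → ℂ) g = -1 := by rw [hthe, Pi.sub_apply, hΛzero 1 g hg]; simp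
  have hth1 : (th : G → ℂ) 1 = (h : ℂ) := by rw [hthe, Pi.sub_apply, hΛ1deg]; simp
  have hnotex : ∀ φ : Cfsg.IrrCharacter G, ∀ f, Triv f → Cfsg.classInner (Λ f) (φ : G → ℂ) ≠ 0 →
      φ ∉ Ex := by
    intro φ f hf hne' hmem
    obtain ⟨χ, hχ, rfl⟩ := Finset.mem_image.1 hmem
    have h1 := hΛν f hf χ hχ
    rw [hX χ hχ, ci_zsmul_right, mul_eq_zero] at h1
    rcases h1 with h1 | h1
    · rcases hsg χ hχ with e' | e' <;> rw [e'] at h1 <;> simp at h1
    · exact hne' h1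
  let R : Finset (Cfsg.IrrCharacter G) := ((Finset.univ \ Ex).erase oG).erase th
  have hoEx : oG ∉ Ex := hnotex oG 1 (fun _ _ => rfl) (by
    show Cfsg.classInner (Λ 1) (fun _ => (1 : ℂ)) ≠ 0
    rw [hΛ1one]; exact one_ne_zero)
  have hthEx : th ∉ Ex := hnotex th 1 (fun _ _ => rfl) hth0
  have hR : ∀ φ ∈ R, (φ : G → ℂ) 1 = (h : ℂ) + 1 ∧ (φ : G → ℂ) g = 0 := by
    intro φ hφ
    obtain ⟨hφth, hφ'⟩ := Finset.mem_erase.1 hφ
    obtain ⟨hφo, hφ''⟩ := Finset.mem_erase.1 hφ'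
    obtain ⟨f, hf, hne'⟩ := hmeet φ (Finset.mem_sdiff.1 hφ'').2
    have hne'' : Cfsg.classInner (Λ f) (φ : G → ℂ) ≠ 0 := fun h' => hne' (by
      rw [← CharInd.classInner_swap, h', map_zero])
    by_cases hf1 : f = 1
    · subst hf1
      exact absurd (Subtype.ext ((hperm φ hφo hne'').trans hthe.symm)) hφth
    · have heq : (φ : G → ℂ) = Λ f := by
        by_contra hc
        exact hne' (irr_ne φ.2 (hΛirr f hf hf1) hc)
      refine ⟨?_, heq ▸ hΛzero f g hg⟩
      have := hΛv f hf 1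
      rw [if_pos rfl, Subgroup.coe_one, hα] at this
      rw [heq, this]; push_cast; ring
  have hsplit : ∀ w : Cfsg.IrrCharacter G → ℂ,
      ∑ φ, w φ = ∑ χ ∈ S, w (X χ) + (w oG + (w th + ∑ φ ∈ R, w φ)) := by
    intro w
    rw [Finset.add_sum_erase _ _ (Finset.mem_erase.2
        ⟨hth, Finset.mem_sdiff.2 ⟨Finset.mem_univ _, hthEx⟩⟩),
      Finset.add_sum_erase _ _ (Finset.mem_sdiff.2 ⟨Finset.mem_univ _, hoEx⟩),
      ← Finset.sum_image hXinj, add_comm]
    exact (Finset.sum_sdiff (Finset.subset_univ _)).symm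
  have hν1 : ∀ χ ∈ S, ν χ 1 = (d χ : ℂ) * ν χ₁ 1 := fun χ hχ => by
    have h1 := congrFun (hνδ χ hχ) 1
    rw [CharInd.indFun_one_eq_zero L (mem_zspanOn_one.1 (hδ χ hχ)).2] at h1
    simpa [sub_eq_zero] using h1
  have hνg : ∀ χ ∈ S, ν χ g = (d χ : ℂ) * ν χ₁ g := fun χ hχ => by
    have h1 := congrFun (hνδ χ hχ) g
    have h2 : Cfsg.indFun L (δ χ) g = 0 := by
      rw [indFun_apply, Finset.sum_eq_zero, mul_zero]
      intro y _
      refine extendByZero_notMem L _ fun hmem => hg (y • a) ?_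
      have := mem_stabilizer_iff.1 hmem
      rwa [mul_smul, mul_smul, inv_smul_eq_iff] at this
    rw [h2] at h1
    simpa [sub_eq_zero] using h1
  -- degree of an exceptional character
  obtain ⟨c₀, hc₀⟩ := isGen_ci_int (Char.isGeneralizedCharacter_restrict (iso_gen hν' (mS χ₁ hχ₁)) L)
    (isGen_irr (hirr χ₁ hχ₁))
  obtain ⟨Q, hQ⟩ : ∃ Q : ℤ, Q = 1 + (c₀ - 1) * t := ⟨_, rfl⟩
  have hψ1 : ν χ₁ 1 = (e : ℂ) * (Q : ℂ) := by
    rw [hdecomp _ (hνcf χ₁ hχ₁) (fun f hf => by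
      rw [← CharInd.classInner_swap, hΛν f hf χ₁ hχ₁, map_zero])]
    have hterm : ∀ χ ∈ S, Cfsg.classInner (fun x : L => ν χ₁ x) χ * χ 1 =
        (if χ = χ₁ then (e : ℂ) else 0) + ((c₀ : ℂ) - 1) * ((d χ : ℂ) * ((e : ℂ) * d χ)) := by
      intro χ hχ
      have h1 := hres χ hχ _ (hνcf χ₁ hχ₁)
      rw [hνo χ₁ hχ₁ χ hχ, hνo χ₁ hχ₁ χ₁ hχ₁, if_pos rfl, hc₀] at h1
      rw [hd' χ hχ]
      by_cases e' : χ = χ₁
      · subst e'
        rw [if_pos rfl, hc₀, hd1]
        push_cast; ring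
      · rw [if_neg e']
        rw [if_neg (Ne.symm e')] at h1
        linear_combination -((e : ℂ) * d χ) * h1
    rw [Finset.sum_congr rfl hterm, Finset.sum_add_distrib, Finset.sum_ite_eq', if_pos hχ₁,
      ← Finset.mul_sum, hsumd, hQ]
    push_cast; ring
  -- the two orthogonality relations
  have hsq1 : ∀ χ ∈ S, ∀ x y : G, (X χ : G → ℂ) x * (X χ : G → ℂ) y = ν χ x * ν χ y := by
    intro χ hχ x y
    rw [hX χ hχ]
    simp only [Pi.smul_apply, zsmul_eq_mul]
    rcases hsg χ hχ with e' | e' <;> rw [e'] <;> push_cast <;> ring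
  have hcol : (t : ℂ) * (ν χ₁ 1 * ν χ₁ g) = (e : ℂ) * t := by
    have h1 := Char.sum_irr_degree_mul (G := G) g
    rw [if_neg hg1, hsplit] at h1
    rw [Finset.sum_congr rfl (fun χ hχ => show _ = (d χ : ℂ) ^ 2 * (ν χ₁ 1 * ν χ₁ g) by
        rw [hsq1 χ hχ 1 g, hν1 χ hχ, hνg χ hχ]; ring), ← Finset.sum_mul,
      Finset.sum_eq_zero (s := R) (fun φ hφ => by rw [(hR φ hφ).2, mul_zero]),
      hth1, hthg] at h1
    have h2 : ∑ χ ∈ S, (d χ : ℂ) ^ 2 = (t : ℂ) := by rw [ht]; push_cast; rfl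
    have h3 : (h : ℂ) = (e : ℂ) * t + 1 := by exact_mod_cast hhte
    rw [h2] at h1
    simp only [oG] at h1
    linear_combination h1 + h3
  have hsqs : (Nat.card G : ℂ) = (t : ℂ) * ν χ₁ 1 ^ 2 + 1 + (h : ℂ) ^ 2 +
      (R.card : ℂ) * ((h : ℂ) + 1) ^ 2 := by
    rw [← Char.sum_irr_degree_sq (G := G), hsplit,
      Finset.sum_congr rfl (fun χ hχ => show _ = (d χ : ℂ) ^ 2 * ν χ₁ 1 ^ 2 by
        rw [sq, hsq1 χ hχ 1 1, hν1 χ hχ]; ring), ← Finset.sum_mul,
      Finset.sum_congr (s₁ := R) rfl (g := fun _ => ((h : ℂ) + 1) ^ 2) (fun φ hφ => by rw [(hR φ hφ).1]),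
      Finset.sum_const, nsmul_eq_mul, hth1,
      show ∑ χ ∈ S, (d χ : ℂ) ^ 2 = (t : ℂ) by rw [ht]; push_cast; rfl]
    simp only [oG]
    ring
  have hQg : (Q : ℂ) * ν χ₁ g = 1 := by
    have ht0 : (t : ℂ) ≠ 0 := Nat.cast_ne_zero.2 (by omega)
    rw [hψ1] at hcol
    apply mul_left_cancel₀ he0
    apply mul_left_cancel₀ ht0
    linear_combination hcol
  have hQ1 : Q = 1 ∨ Q = -1 := by
    have hint : IsIntegral ℤ (ν χ₁ g) := by
      rw [hX χ₁ hχ₁, Pi.smul_apply, zsmul_eq_mul]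
      exact (isIntegral_algebraMap (R := ℤ) (x := sg χ₁)).mul
        (Char.isCharacter_isIntegral (Char.isCharacter_of_irr (X χ₁).2) g)
    have hQ0 : Q ≠ 0 := fun e' => by rw [e'] at hQg; simp at hQg
    have hq : ν χ₁ g = (((1 : ℚ) / Q : ℚ) : ℂ) := by
      push_cast
      rw [eq_div_iff (Int.cast_ne_zero.2 hQ0), mul_comm, hQg]
    obtain ⟨z, hz'⟩ := Char.exists_int_of_isIntegral_rat (hq ▸ hint)
    rw [div_eq_iff (Int.cast_ne_zero.2 hQ0)] at hz'
    have : (1 : ℤ) = z * Q := by exact_mod_cast hz'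
    rcases Int.eq_one_or_neg_one_of_mul_eq_one (this ▸ mul_comm Q z : Q * z = 1) with e' | e'
    · exact Or.inl e'
    · exact Or.inr e'
  have hψsq : ν χ₁ 1 ^ 2 = (e : ℂ) ^ 2 := by
    rw [hψ1]; rcases hQ1 with e' | e' <;> rw [e'] <;> push_cast <;> ring
  rw [hψsq, hz.card_group hab, hα, Nat.add_sub_cancel, ← he] at hsqs
  have hnat : (h + 1) * (h * e) = t * e ^ 2 + 1 + h ^ 2 + R.card * (h + 1) ^ 2 := by
    exact_mod_cast hsqs
  have hzq : ((h : ℤ) + 1) ∣ 2 * ((e : ℤ) - 1) := by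
    refine ⟨(e : ℤ) + ((h : ℤ) - 1) + R.card * ((h : ℤ) + 1) - (h : ℤ) * e, ?_⟩
    have h1 : ((h : ℤ) + 1) * ((h : ℤ) * e) =
        (t : ℤ) * (e : ℤ) ^ 2 + 1 + (h : ℤ) ^ 2 + R.card * ((h : ℤ) + 1) ^ 2 := by exact_mod_cast hnat
    have h2 : (h : ℤ) = (e : ℤ) * t + 1 := by exact_mod_cast hhte
    linear_combination h1 - (e : ℤ) * h2
  have := Int.le_of_dvd (by omega) hzq
  omega

end Cfsg.Agent.OddChar43
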