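import Cfsg.Agent.OddChar43.Frob
import Cfsg.Agent.OddChar43.Isometry
import Cfsg.Agent.OddChar43.Extend
import Cfsg.Agent.OddChar43.Induced
import Cfsg.Agent.Char.Product
import Cfsg.Agent.Char.Nilpotent
import Cfsg.Agent.Char.Integrality
import Cfsg.Agent.Char.Kernel

/-!
# Coherence in a Frobenius group of any parity (Feit)
-/

set_option autoImplicit false
set_option linter.style.haveILetI false
set_option linter.unusedSectionVars false

noncomputable section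

open scoped ComplexConjugate BigOperators
open Cfsg.Agent Cfsg.Agent.CharInd

namespace Cfsg.Agent.OddChar43

universe u v

/-- Adjoining one irreducible character to a coherent set. -/
theorem coherent_insert {N : Type u} [Group N] [Fintype N] {G : Type v} [Group G] [Fintype G]
    (S₀ : Finset (N → ℂ)) (χ : N → ℂ) (hirr : ∀ ξ ∈ S₀, Cfsg.IsIrrCharacter N ξ)
    (hχ : Cfsg.IsIrrCharacter N χ) (hχS : χ ∉ S₀) (d : (N → ℂ) → ℕ)
    (hd : ∀ ξ ∈ insert χ S₀, ξ 1 = (d ξ : ℂ)) (τ : (N → ℂ) → (G → ℂ))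
    (hτ : Cfsg.IsLinearIsometryOn (Cfsg.zspanOn (↑(insert χ S₀) : Set (N → ℂ)) {1}ᶜ) τ)
    (hτ1 : ∀ α ∈ Cfsg.zspanOn (↑(insert χ S₀) : Set (N → ℂ)) {1}ᶜ, τ α 1 = 0)
    (hcoh : Cfsg.IsCoherent (↑S₀ : Set (N → ℂ)) {1}ᶜ τ) (ψ : N → ℂ) (hψ : ψ ∈ S₀)
    (hdvd : d ψ ∣ d χ) (hlt : 2 * d ψ * d χ < ∑ ξ ∈ S₀, d ξ ^ 2) :
    Cfsg.IsCoherent (↑(insert χ S₀) : Set (N → ℂ)) {1}ᶜ τ := by
  classical
  obtain ⟨hne0, σ, hσ, hσα⟩ := hcoh
  have hσ' : Cfsg.IsLinearIsometryOn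
      ((Submodule.span ℤ (↑S₀ : Set (N → ℂ)) : Submodule ℤ (N → ℂ)) : Set (N → ℂ)) σ := hσ
  set T : Set (N → ℂ) := (↑(insert χ S₀) : Set (N → ℂ)) with hT
  have hτ' : Cfsg.IsLinearIsometryOn (spanOnSub T {1}ᶜ : Set (N → ℂ)) τ := hτ
  have hsub : (↑S₀ : Set (N → ℂ)) ⊆ T := by rw [hT]; exact_mod_cast Finset.subset_insert χ S₀
  have hchiT : χ ∈ T := by rw [hT]; exact Finset.mem_coe.2 (Finset.mem_insert_self χ S₀)
  have m0 : ∀ ξ ∈ S₀, ξ ∈ Submodule.span ℤ (↑S₀ : Set (N → ℂ)) := fun ξ h =>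
    Submodule.subset_span h
  have dχ : χ 1 = (d χ : ℂ) := hd χ (Finset.mem_insert_self χ S₀)
  have d0 : ∀ ξ ∈ S₀, ξ 1 = (d ξ : ℂ) := fun ξ h => hd ξ (Finset.mem_insert_of_mem h)
  have dpos : 0 < d ψ := by
    obtain ⟨n, hn, hn'⟩ := Char.irr_one_pos (hirr ψ hψ)
    rw [d0 ψ hψ] at hn'
    have : d ψ = n := by exact_mod_cast hn'
    omega
  have dχpos : 0 < d χ := by
    obtain ⟨n, hn, hn'⟩ := Char.irr_one_pos hχ
    rw [dχ] at hn'
    have : d χ = n := by exact_mod_cast hn'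
    omega
  obtain ⟨a, ha⟩ := hdvd
  have hapos : 0 < a := Nat.pos_of_ne_zero (by rintro rfl; simp at ha; omega)
  have hnmem : ∀ ξ ∈ S₀, ξ ≠ χ := fun ξ h e => hχS (e ▸ h)
  -- the comparison element
  obtain ⟨β, hβdef⟩ : ∃ β, β = (a : ℤ) • ψ - χ := ⟨_, rfl⟩
  have hβ : β ∈ spanOnSub T {1}ᶜ := mem_zspanOn_one.2
    ⟨hβdef ▸ sub_mem (Submodule.smul_mem _ _ (Submodule.subset_span (hsub hψ))) (Submodule.subset_span hchiT),
      by simp [hβdef, d0 ψ hψ, dχ, ha, mul_comm]⟩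
  have hc : ∀ ξ ∈ S₀, ∃ n : ℤ, Cfsg.classInner (τ β) (σ ξ) = n := fun ξ h =>
    isGen_ci_int (iso_gen hτ' hβ) (iso_gen hσ' (m0 ξ h))
  choose! b hb using hc
  -- the differences inside `S₀`
  have hD : ∀ ξ ∈ S₀, (d ψ : ℤ) • ξ - (d ξ : ℤ) • ψ ∈ Cfsg.zspanOn (↑S₀ : Set (N → ℂ)) {1}ᶜ :=
    fun ξ h => mem_zspanOn_one.2 ⟨sub_mem (Submodule.smul_mem _ _ (m0 ξ h))
      (Submodule.smul_mem _ _ (m0 ψ hψ)), by simp [d0 ξ h, d0 ψ hψ, mul_comm]⟩
  have hσD : ∀ ξ ∈ S₀, σ ((d ψ : ℤ) • ξ - (d ξ : ℤ) • ψ) = (d ψ : ℤ) • σ ξ - (d ξ : ℤ) • σ ψ :=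
    fun ξ h => by
      rw [iso_sub hσ' (Submodule.smul_mem _ _ (m0 ξ h)) (Submodule.smul_mem _ _ (m0 ψ hψ)),
        iso_zsmul hσ' (m0 ξ h), iso_zsmul hσ' (m0 ψ hψ)]
  let v : (N → ℂ) → ℤ := fun ξ => b ξ - if ξ = ψ then (a : ℤ) else 0
  have hrel : ∀ ξ ∈ S₀, (d ψ : ℤ) * v ξ = (d ξ : ℤ) * v ψ := by
    intro ξ h
    have h1 := hτ'.2.2.1 β hβ _ (zspanOn_mono hsub _ (hD ξ h))
    rw [← hσα _ (hD ξ h), hσD ξ h] at h1
    simp only [hβdef, CharInd.classInner_sub_left, CharInd.classInner_sub_right, ci_zsmul_left,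
      ci_zsmul_right, irr_ne hχ (hirr ξ h) (hnmem ξ h).symm, irr_ne hχ (hirr ψ hψ) (hnmem ψ hψ).symm,
      irr_self (hirr ψ hψ), irr_ortho (hirr ψ hψ) (hirr ξ h)] at h1
    rw [← hβdef, hb ξ h, hb ψ hψ] at h1
    by_cases e : ξ = ψ
    · subst e; rfl
    · simp only [Ne.symm e, if_false, mul_zero, sub_zero, mul_one, zero_sub] at h1
      have h2 : (d ψ : ℤ) * b ξ - (d ξ : ℤ) * b ψ = -((d ξ : ℤ) * (a : ℤ)) := by exact_mod_cast h1
      simp only [v, if_neg e, if_pos, sub_zero]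
      linarith
  -- the norm
  obtain ⟨Δ, hΔdef⟩ : ∃ Δ, Δ = τ β - ∑ ξ ∈ S₀, b ξ • σ ξ := ⟨_, rfl⟩
  have hΔgen : Cfsg.IsGeneralizedCharacter G Δ := hΔdef ▸
    isGen_sub (iso_gen hτ' hβ) (isGen_sum _ fun ξ h => isGen_zsmul _ (iso_gen hσ' (m0 ξ h)))
  obtain ⟨k, hk, hk0⟩ := isGen_ci_self hΔgen
  have hσor : ∀ ξ ∈ S₀, ∀ η ∈ S₀, Cfsg.classInner (σ ξ) (σ η) = if ξ = η then 1 else 0 :=
    fun ξ h η h' => by rw [iso_inner hσ' (m0 ξ h) (m0 η h'), irr_ortho (hirr ξ h) (hirr η h')]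
  have hsum1 : Cfsg.classInner (∑ ξ ∈ S₀, b ξ • σ ξ) (τ β) = ∑ ξ ∈ S₀, ((b ξ : ℂ)) ^ 2 := by
    rw [ci_sum_left]
    refine Finset.sum_congr rfl fun ξ h => ?_
    rw [ci_zsmul_left, ← CharInd.classInner_swap, hb ξ h, map_intCast, sq]
  have hsum2 : Cfsg.classInner (τ β) (∑ ξ ∈ S₀, b ξ • σ ξ) = ∑ ξ ∈ S₀, ((b ξ : ℂ)) ^ 2 := by
    rw [ci_sum_right]
    refine Finset.sum_congr rfl fun ξ h => ?_
    rw [ci_zsmul_right, hb ξ h, sq]
  have hsum3 : Cfsg.classInner (∑ ξ ∈ S₀, b ξ • σ ξ) (∑ ξ ∈ S₀, b ξ • σ ξ) =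
      ∑ ξ ∈ S₀, ((b ξ : ℂ)) ^ 2 := by
    rw [ci_sum_right]
    refine Finset.sum_congr rfl fun ξ h => ?_
    rw [ci_zsmul_right, ci_sum_left, Finset.sum_eq_single ξ, ci_zsmul_left, hσor ξ h ξ h, if_pos rfl,
      mul_one, sq]
    · intro η h' hne
      rw [ci_zsmul_left, hσor η h' ξ h, if_neg hne, mul_zero]
    · exact fun h' => absurd h h'
  have hββ : Cfsg.classInner (τ β) (τ β) = ((a : ℂ)) ^ 2 + 1 := by
    rw [iso_inner hτ' hβ hβ, hβdef]
    simp only [CharInd.classInner_sub_left, CharInd.classInner_sub_right, ci_zsmul_left,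
      ci_zsmul_right, irr_self hχ, irr_self (hirr ψ hψ), irr_ne hχ (hirr ψ hψ) (hnmem ψ hψ).symm,
      irr_ne (hirr ψ hψ) hχ (hnmem ψ hψ), Int.cast_natCast]
    ring
  have hnorm : (k : ℤ) + ∑ ξ ∈ S₀, b ξ ^ 2 = (a : ℤ) ^ 2 + 1 := by
    have h1 : Cfsg.classInner Δ Δ = ((a : ℂ)) ^ 2 + 1 - ∑ ξ ∈ S₀, ((b ξ : ℂ)) ^ 2 := by
      simp only [hΔdef, CharInd.classInner_sub_left, CharInd.classInner_sub_right, hsum1, hsum2,
        hsum3, hββ]
      ring
    rw [hk] at h1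
    have h2 : (k : ℂ) + ∑ ξ ∈ S₀, ((b ξ : ℂ)) ^ 2 = ((a : ℂ)) ^ 2 + 1 := by rw [h1]; ring
    exact_mod_cast h2
  have hbv : ∀ ξ, b ξ = v ξ + if ξ = ψ then (a : ℤ) else 0 := fun ξ => by simp [v]
  have hbsum : ∑ ξ ∈ S₀, b ξ ^ 2 = (∑ ξ ∈ S₀, v ξ ^ 2) + 2 * a * v ψ + (a : ℤ) ^ 2 := by
    simp only [hbv, add_sq, Finset.sum_add_distrib, mul_ite, mul_zero, ite_pow, zero_pow two_ne_zero,
      Finset.sum_ite_eq' S₀, if_pos hψ]
    ring
  obtain ⟨W, hW⟩ : ∃ W : ℤ, W = ∑ ξ ∈ S₀, (d ξ : ℤ) ^ 2 := ⟨_, rfl⟩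
  have hscaled : (d ψ : ℤ) ^ 2 * ∑ ξ ∈ S₀, v ξ ^ 2 = v ψ ^ 2 * W := by
    rw [hW, Finset.mul_sum, Finset.mul_sum]
    refine Finset.sum_congr rfl fun ξ h => ?_
    rw [← mul_pow, hrel ξ h, mul_pow, mul_comm]
  have hbig : 2 * (a : ℤ) * (d ψ : ℤ) ^ 2 < W := by
    have : (2 * d ψ * d χ : ℤ) < ∑ ξ ∈ S₀, (d ξ : ℤ) ^ 2 := by exact_mod_cast hlt
    rw [hW, ha] at *
    push_cast at this
    linarith
  have hu : v ψ = 0 := by
    by_contra hu
    have hk' : 1 = (∑ ξ ∈ S₀, v ξ ^ 2) + 2 * a * v ψ + (k : ℤ) := by linarith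
    have hk1 : (d ψ : ℤ) ^ 2 = v ψ ^ 2 * W + 2 * a * v ψ * (d ψ : ℤ) ^ 2 + k * (d ψ : ℤ) ^ 2 := by
      rw [← hscaled]
      linear_combination (d ψ : ℤ) ^ 2 * hk'
    have hp : (0 : ℤ) < (d ψ : ℤ) ^ 2 := by positivity
    have hkn : (0 : ℤ) ≤ (k : ℤ) * (d ψ : ℤ) ^ 2 := by positivity
    have ha1 : (1 : ℤ) ≤ a := by exact_mod_cast hapos
    have hadp : (d ψ : ℤ) ^ 2 ≤ (a : ℤ) * (d ψ : ℤ) ^ 2 := le_mul_of_one_le_left hp.le ha1
    have hu1 : v ψ = -1 := by
      rcases (show v ψ = -1 ∨ 1 ≤ v ψ ∨ v ψ ≤ -2 by omega) with h | h | h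
      · exact h
      · exfalso; nlinarith [mul_le_mul h h zero_le_one (by linarith : (0:ℤ) ≤ v ψ)]
      · exfalso
        nlinarith [mul_nonneg (by linarith : (0:ℤ) ≤ -v ψ - 2) (by linarith : (0:ℤ) ≤ W),
          mul_nonneg (by linarith : (0:ℤ) ≤ -v ψ) (by linarith : (0:ℤ) ≤ W - 2 * a * (d ψ : ℤ) ^ 2)]
    rw [hu1] at hk' hk1 hscaled
    have hk0' : k = 0 := by
      have h3 : 2 * (a : ℤ) < ∑ ξ ∈ S₀, v ξ ^ 2 := by nlinarith
      omega
    have hΔ0 : τ β = ∑ ξ ∈ S₀, b ξ • σ ξ := by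
      have := hk0 hk0'
      rw [hΔdef, sub_eq_zero] at this
      exact this
    obtain ⟨e, μ, he, hμ, heμ⟩ := isGen_norm_one (iso_gen hσ' (m0 ψ hψ))
      (by rw [hσor ψ hψ ψ hψ, if_pos rfl])
    have hσ1 : σ ψ 1 ≠ 0 := by
      rw [heμ, Pi.smul_apply, zsmul_eq_mul]
      exact mul_ne_zero (Int.cast_ne_zero.2 (by rcases he with h | h <;> omega)) (Char.irr_one_ne_zero hμ)
    have hdeg : ∀ ξ ∈ S₀, (d ψ : ℂ) * σ ξ 1 = (d ξ : ℂ) * σ ψ 1 := by
      intro ξ h
      have h1 := hτ1 _ (zspanOn_mono hsub _ (hD ξ h))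
      rw [← hσα _ (hD ξ h), hσD ξ h] at h1
      simpa [sub_eq_zero] using h1
    have h0 := congrFun hΔ0 1
    rw [hτ1 β hβ, Finset.sum_apply] at h0
    have h4 : (((∑ ξ ∈ S₀, b ξ * (d ξ : ℤ)) : ℤ) : ℂ) * σ ψ 1 = 0 := by
      have h5 := congrArg (fun z : ℂ => (d ψ : ℂ) * z) h0.symm
      simp only [mul_zero, Finset.mul_sum] at h5
      push_cast
      rw [Finset.sum_mul, ← h5]
      refine Finset.sum_congr rfl fun ξ h => ?_
      rw [Pi.smul_apply, zsmul_eq_mul]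
      linear_combination -(b ξ : ℂ) * hdeg ξ h
    have h6 : ∑ ξ ∈ S₀, b ξ * (d ξ : ℤ) = 0 := by
      exact_mod_cast (mul_eq_zero.1 h4).resolve_right hσ1
    have h7 : (d ψ : ℤ) * ∑ ξ ∈ S₀, b ξ * (d ξ : ℤ) = (a : ℤ) * (d ψ : ℤ) ^ 2 - W := by
      rw [Finset.mul_sum, hW]
      have : ∀ ξ ∈ S₀, (d ψ : ℤ) * (b ξ * (d ξ : ℤ)) =
          (if ξ = ψ then (a : ℤ) * (d ψ : ℤ) ^ 2 else 0) - (d ξ : ℤ) ^ 2 := by
        intro ξ h
        have := hrel ξ h
        rw [hu1] at this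
        rw [hbv ξ]
        by_cases e : ξ = ψ
        · rw [if_pos e, if_pos e]; subst e; linear_combination (d ξ : ℤ) * this
        · rw [if_neg e, if_neg e]; linear_combination (d ξ : ℤ) * this
      rw [Finset.sum_congr rfl this, Finset.sum_sub_distrib, Finset.sum_ite_eq', if_pos hψ]
    rw [h6, mul_zero] at h7
    nlinarith
  have hv0 : ∀ ξ ∈ S₀, b ξ = if ξ = ψ then (a : ℤ) else 0 := by
    intro ξ h
    have := hrel ξ h
    rw [hu, mul_zero] at this
    rw [hbv ξ, (mul_eq_zero.1 this).resolve_left (by exact_mod_cast dpos.ne'), zero_add]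
  -- the extension
  let f : (N → ℂ) → (G → ℂ) := fun ξ => if ξ = χ then (a : ℤ) • σ ψ - τ β else σ ξ
  have fχ : f χ = (a : ℤ) • σ ψ - τ β := if_pos rfl
  have f0 : ∀ ξ ∈ S₀, f ξ = σ ξ := fun ξ h => if_neg (hnmem ξ h)
  have hx0 : ∀ ξ ∈ S₀, Cfsg.classInner ((a : ℤ) • σ ψ - τ β) (σ ξ) = 0 := by
    intro ξ h
    rw [CharInd.classInner_sub_left, ci_zsmul_left, hσor ψ hψ ξ h, hb ξ h, hv0 ξ h]
    by_cases e : ξ = ψ
    · simp [e]
    · simp [e, Ne.symm e]
  have hor : OrthoData (insert χ S₀) f := by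
    have hall : ∀ ξ ∈ insert χ S₀, Cfsg.IsIrrCharacter N ξ := fun ξ h =>
      (Finset.mem_insert.1 h).elim (fun e => e ▸ hχ) (hirr ξ)
    refine ⟨fun ξ h => Char.irr_ne_zero (hall ξ h), fun ξ h η h' hne => irr_ne (hall ξ h) (hall η h') hne,
      fun ξ h η h' => ?_, fun ξ h => ?_⟩
    · rcases Finset.mem_insert.1 h with e | g <;> rcases Finset.mem_insert.1 h' with e' | g'
      · subst e e'
        rw [fχ, CharInd.classInner_sub_right, ci_zsmul_right, hx0 ψ hψ, CharInd.classInner_sub_left,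
          ci_zsmul_left, hββ, ← CharInd.classInner_swap (τ β) (σ ψ), hb ψ hψ, hv0 ψ hψ, irr_self hχ]
        simp
        ring
      · subst e
        rw [fχ, f0 η g', hx0 η g', irr_ne hχ (hirr η g') (hnmem η g').symm]
      · subst e'
        rw [fχ, f0 ξ g, ← CharInd.classInner_swap, hx0 ξ g, map_zero, irr_ne (hirr ξ g) hχ (hnmem ξ g)]
      · rw [f0 ξ g, f0 η g', iso_inner hσ' (m0 ξ g) (m0 η g')]
    · rcases Finset.mem_insert.1 h with e | h
      · subst e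
        rw [fχ]; exact isGen_sub (isGen_zsmul _ (iso_gen hσ' (m0 ψ hψ))) (iso_gen hτ' hβ)
      · rw [f0 ξ h]; exact iso_gen hσ' (m0 ξ h)
  obtain ⟨α, hα, hαne⟩ := hne0
  refine coherent_of_values hor ⟨α, zspanOn_mono hsub _ hα, hαne⟩ ?_
  intro θ hθ
  obtain ⟨hθ1, hθ0⟩ := mem_zspanOn_one.1 hθ
  rw [mem_zspan, Finset.coe_insert, Submodule.mem_span_insert] at hθ1
  obtain ⟨n, x, hx, rfl⟩ := hθ1
  have hy : n • ((a : ℤ) • ψ) + x ∈ Cfsg.zspanOn (↑S₀ : Set (N → ℂ)) {1}ᶜ := by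
    refine mem_zspanOn_one.2 ⟨add_mem (Submodule.smul_mem _ _ (Submodule.smul_mem _ _ (m0 ψ hψ))) hx, ?_⟩
    rw [Pi.add_apply, Pi.smul_apply, dχ, zsmul_eq_mul] at hθ0
    rw [Pi.add_apply, Pi.smul_apply, Pi.smul_apply, d0 ψ hψ, zsmul_eq_mul, zsmul_eq_mul]
    rw [← hθ0, ha]
    push_cast
    ring
  have hy' : n • ((a : ℤ) • ψ) + x ∈ spanOnSub T {1}ᶜ := zspanOn_mono hsub _ hy
  have e1 : n • χ + x = (n • ((a : ℤ) • ψ) + x) + (-n) • β := by rw [hβdef]; module
  rw [map_add, map_zsmul_lin, extLin_self hor (Finset.mem_insert_self χ S₀), fχ,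
    iso_eq_extLin hor (Finset.coe_subset.2 (Finset.subset_insert χ S₀)) hσ
      (fun ξ h => (f0 ξ h).symm) hx, e1, iso_add hτ' hy' (Submodule.smul_mem _ _ hβ),
    iso_zsmul hτ' hβ, ← hσα _ hy,
    iso_add hσ' (Submodule.smul_mem _ _ (Submodule.smul_mem _ _ (m0 ψ hψ))) hx,
    iso_zsmul hσ' (Submodule.smul_mem _ _ (m0 ψ hψ)), iso_zsmul hσ' (m0 ψ hψ)]
  module

open Classical in
/-- At least two irreducible characters of one degree form a coherent set. -/
theorem coherent_equal_degree {N : Type u} [Group N] [Fintype N] {G : Type v} [Group G] [Fintype G]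
    (Y : Finset (N → ℂ)) (hirr : ∀ y ∈ Y, Cfsg.IsIrrCharacter N y) (c : ℕ)
    (hc : ∀ y ∈ Y, y 1 = (c : ℂ)) (h2 : 2 ≤ Y.card) (τ : (N → ℂ) → (G → ℂ))
    (hτ : Cfsg.IsLinearIsometryOn (Cfsg.zspanOn (Y : Set (N → ℂ)) {1}ᶜ) τ)
    (hτ1 : ∀ α ∈ Cfsg.zspanOn (Y : Set (N → ℂ)) {1}ᶜ, τ α 1 = 0) :
    Cfsg.IsCoherent (Y : Set (N → ℂ)) {1}ᶜ τ := by
  obtain ⟨y₁, hy₁, y₂, hy₂, h12⟩ := Finset.one_lt_card.1 h2
  have hτ' : Cfsg.IsLinearIsometryOn (spanOnSub (Y : Set (N → ℂ)) {1}ᶜ : Set (N → ℂ)) τ := hτ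
  have hc0 : (c : ℂ) ≠ 0 := hc y₁ hy₁ ▸ Char.irr_one_ne_zero (hirr y₁ hy₁)
  have hD : ∀ y ∈ Y, y - y₁ ∈ spanOnSub (Y : Set (N → ℂ)) {1}ᶜ := fun y h => mem_zspanOn_one.2
    ⟨sub_mem (Submodule.subset_span h) (Submodule.subset_span hy₁),
      by rw [Pi.sub_apply, hc y h, hc y₁ hy₁, sub_self]⟩
  have hin : ∀ y ∈ Y, ∀ z ∈ Y, y ≠ y₁ → z ≠ y₁ →
      Cfsg.classInner (τ (y - y₁)) (τ (z - y₁)) = (if y = z then 1 else 0) + 1 := by
    intro y hy z hz hy' hz'
    rw [iso_inner hτ' (hD y hy) (hD z hz)]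
    simp only [CharInd.classInner_sub_left, CharInd.classInner_sub_right, irr_self (hirr y₁ hy₁),
      irr_ne (hirr y hy) (hirr y₁ hy₁) hy', irr_ne (hirr y₁ hy₁) (hirr z hz) (Ne.symm hz'),
      irr_ortho (hirr y hy) (hirr z hz)]
    ring
  have hex : ∀ y, y ∈ Y ∧ y ≠ y₁ → ∃ μ ν : G → ℂ, Cfsg.IsIrrCharacter G μ ∧
      Cfsg.IsIrrCharacter G ν ∧ μ ≠ ν ∧ τ (y - y₁) = μ - ν := fun y hy =>
    isGen_norm_two (iso_gen hτ' (hD y hy.1))
      (by rw [hin y hy.1 y hy.1 hy.2 hy.2, if_pos rfl]; norm_num) (hτ1 _ (hD y hy.1))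
  choose! M V hM hV hMV hτy using hex
  have hpair : ∀ y z, y ∈ Y ∧ y ≠ y₁ → z ∈ Y ∧ z ≠ y₁ → y ≠ z →
      (M y = M z ∧ V y ≠ V z) ∨ (V y = V z ∧ M y ≠ M z) := by
    intro y z hy hz hne
    have h := hin y hy.1 z hz.1 hy.2 hz.2
    rw [hτy y hy, hτy z hz, if_neg hne, zero_add] at h
    simp only [CharInd.classInner_sub_left, CharInd.classInner_sub_right, irr_ortho (hM y hy) (hM z hz),
      irr_ortho (hV y hy) (hV z hz), irr_ortho (hM y hy) (hV z hz), irr_ortho (hV y hy) (hM z hz)] at h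
    have a1 := hMV y hy
    have a2 := hMV z hz
    by_cases e1 : M y = M z <;> by_cases e2 : V y = V z
    · have n1 : M y ≠ V z := fun e => a1 (e.trans e2.symm)
      have n2 : V y ≠ M z := fun e => a1 (e1.trans e.symm)
      exfalso
      rw [if_pos e1, if_pos e2, if_neg n1, if_neg n2] at h
      norm_num at h
    · exact Or.inl ⟨e1, e2⟩
    · exact Or.inr ⟨e2, e1⟩
    · exfalso
      rw [if_neg e1, if_neg e2] at h
      split_ifs at h <;> norm_num at h
  have hw₂ : y₂ ∈ Y ∧ y₂ ≠ y₁ := ⟨hy₂, Ne.symm h12⟩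
  have hfin : ∀ f : (N → ℂ) → (G → ℂ), (∀ y ∈ Y, ∀ z ∈ Y,
        Cfsg.classInner (f y) (f z) = if y = z then 1 else 0) →
      (∀ y ∈ Y, Cfsg.IsGeneralizedCharacter G (f y)) →
      (∀ y, y ∈ Y ∧ y ≠ y₁ → f y - f y₁ = τ (y - y₁)) →
      Cfsg.IsCoherent (Y : Set (N → ℂ)) {1}ᶜ τ := by
    intro f hf hg hsub
    have hor : OrthoData Y f := ⟨fun χ h => Char.irr_ne_zero (hirr χ h),
      fun χ h φ h' hne => irr_ne (hirr χ h) (hirr φ h') hne,
      fun χ h φ h' => by rw [hf χ h φ h', irr_ortho (hirr χ h) (hirr φ h')], hg⟩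
    refine coherent_of_values hor ⟨y₂ - y₁, hD y₂ hy₂, sub_ne_zero.2 (Ne.symm h12)⟩ ?_
    intro α hα
    obtain ⟨h1, h0⟩ := mem_zspanOn_one.1 hα
    have key : ∀ x ∈ Submodule.span ℤ (Y : Set (N → ℂ)), ∃ n : ℤ,
        x - n • y₁ ∈ spanOnSub (Y : Set (N → ℂ)) {1}ᶜ ∧ x 1 = (n : ℂ) * (c : ℂ) ∧
        extLin Y f (x - n • y₁) = τ (x - n • y₁) := by
      intro x hx
      induction hx using Submodule.span_induction with
      | mem y hy =>
        refine ⟨1, by rw [one_smul]; exact hD y hy, by simp [hc y hy], ?_⟩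
        rw [one_smul, map_sub, extLin_self hor hy, extLin_self hor hy₁]
        by_cases e : y = y₁
        · subst e; rw [sub_self, sub_self, iso_zero hτ']
        · exact hsub y ⟨hy, e⟩
      | zero => exact ⟨0, by simp, by simp, by simp [iso_zero hτ']⟩
      | add x y _ _ hx hy =>
        obtain ⟨a, ha, ha1, ha2⟩ := hx
        obtain ⟨b, hb, hb1, hb2⟩ := hy
        have e : x + y - (a + b) • y₁ = (x - a • y₁) + (y - b • y₁) := by module
        refine ⟨a + b, e ▸ add_mem ha hb, by rw [Pi.add_apply, ha1, hb1]; push_cast; ring, ?_⟩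
        rw [e, map_add, ha2, hb2, iso_add hτ' ha hb]
      | smul k x _ hx =>
        obtain ⟨a, ha, ha1, ha2⟩ := hx
        have e : k • x - (k * a) • y₁ = k • (x - a • y₁) := by module
        refine ⟨k * a, e ▸ Submodule.smul_mem _ _ ha,
          by rw [Pi.smul_apply, ha1, zsmul_eq_mul]; push_cast; ring, ?_⟩
        rw [e, map_zsmul_lin, ha2, iso_zsmul hτ' ha]
    obtain ⟨n, hn, hn1, hn2⟩ := key α h1
    rw [h0] at hn1
    have : n = 0 := by
      rcases mul_eq_zero.1 hn1.symm with h | h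
      · exact_mod_cast h
      · exact absurd h hc0
    subst this
    simpa using hn2
  by_cases hall : ∀ z, z ∈ Y ∧ z ≠ y₁ → M z = M y₂
  · refine hfin (fun y => if y = y₁ then -M y₂ else -V y) ?_ ?_ ?_
    · intro y hy z hz
      by_cases e : y = y₁ <;> by_cases e' : z = y₁
      · simp only [if_pos e, if_pos e', ci_neg_left, ci_neg_right, neg_neg, irr_self (hM y₂ hw₂)]
        rw [if_pos (e.trans e'.symm)]
      · have hz' : z ∈ Y ∧ z ≠ y₁ := ⟨hz, e'⟩
        have hne : M y₂ ≠ V z := fun h => hMV z hz' ((hall z hz').trans h)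
        simp only [if_pos e, if_neg e', ci_neg_left, ci_neg_right, neg_neg,
          irr_ne (hM y₂ hw₂) (hV z hz') hne]
        rw [if_neg (by rw [e]; exact Ne.symm e')]
      · have hy' : y ∈ Y ∧ y ≠ y₁ := ⟨hy, e⟩
        have hne : V y ≠ M y₂ := fun h => hMV y hy' ((hall y hy').trans h.symm)
        simp only [if_neg e, if_pos e', ci_neg_left, ci_neg_right, neg_neg,
          irr_ne (hV y hy') (hM y₂ hw₂) hne]
        rw [if_neg (by rw [e']; exact e)]
      · have hy' : y ∈ Y ∧ y ≠ y₁ := ⟨hy, e⟩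
        have hz' : z ∈ Y ∧ z ≠ y₁ := ⟨hz, e'⟩
        simp only [if_neg e, if_neg e', ci_neg_left, ci_neg_right, neg_neg]
        rw [irr_ortho (hV y hy') (hV z hz')]
        refine if_congr ⟨fun h => ?_, fun h => h ▸ rfl⟩ rfl rfl
        by_contra hne
        rcases hpair y z hy' hz' hne with h' | h'
        · exact h'.2 h
        · exact h'.2 ((hall y hy').trans (hall z hz').symm)
    · intro y hy
      by_cases e : y = y₁
      · simp only [if_pos e]; exact isGen_neg (isGen_irr (hM y₂ hw₂))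
      · simp only [if_neg e]; exact isGen_neg (isGen_irr (hV y ⟨hy, e⟩))
    · intro y hy
      simp only [if_neg hy.2, if_pos]
      rw [hτy y hy, hall y hy]
      abel
  · push Not at hall
    obtain ⟨z₀, hz₀, hz₀M⟩ := hall
    have hz₀V : V z₀ = V y₂ := by
      rcases hpair z₀ y₂ hz₀ hw₂ (fun e => hz₀M (e ▸ rfl)) with h | h
      · exact absurd h.1 hz₀M
      · exact h.1
    have hV' : ∀ w, w ∈ Y ∧ w ≠ y₁ → V w = V y₂ := by
      intro w hw
      by_contra hne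
      rcases hpair w y₂ hw hw₂ (fun e => hne (e ▸ rfl)) with h | h
      · rcases hpair w z₀ hw hz₀ (fun e => hne (e ▸ hz₀V)) with h' | h'
        · exact hz₀M (h'.1.symm.trans h.1)
        · exact hne (h'.1.trans hz₀V)
      · exact hne h.1
    refine hfin (fun y => if y = y₁ then V y₂ else M y) ?_ ?_ ?_
    · intro y hy z hz
      by_cases e : y = y₁ <;> by_cases e' : z = y₁
      · simp only [if_pos e, if_pos e', irr_self (hV y₂ hw₂)]
        rw [if_pos (e.trans e'.symm)]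
      · have hz' : z ∈ Y ∧ z ≠ y₁ := ⟨hz, e'⟩
        have hne : V y₂ ≠ M z := fun h => hMV z hz' (h.symm.trans (hV' z hz').symm)
        simp only [if_pos e, if_neg e', irr_ne (hV y₂ hw₂) (hM z hz') hne]
        rw [if_neg (by rw [e]; exact Ne.symm e')]
      · have hy' : y ∈ Y ∧ y ≠ y₁ := ⟨hy, e⟩
        have hne : M y ≠ V y₂ := fun h => hMV y hy' (h.trans (hV' y hy').symm)
        simp only [if_neg e, if_pos e', irr_ne (hM y hy') (hV y₂ hw₂) hne]
        rw [if_neg (by rw [e']; exact e)]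
      · have hy' : y ∈ Y ∧ y ≠ y₁ := ⟨hy, e⟩
        have hz' : z ∈ Y ∧ z ≠ y₁ := ⟨hz, e'⟩
        simp only [if_neg e, if_neg e']
        rw [irr_ortho (hM y hy') (hM z hz')]
        refine if_congr ⟨fun h => ?_, fun h => h ▸ rfl⟩ rfl rfl
        by_contra hne
        rcases hpair y z hy' hz' hne with h' | h'
        · exact h'.2 ((hV' y hy').trans (hV' z hz').symm)
        · exact h'.2 h
    · intro y hy
      by_cases e : y = y₁
      · simp only [if_pos e]; exact isGen_irr (hV y₂ hw₂)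
      · simp only [if_neg e]; exact isGen_irr (hM y ⟨hy, e⟩)
    · intro y hy
      simp only [if_neg hy.2, if_pos]
      rw [hτy y hy, hV' y hy]

section Counting

variable {N : Type u} [Group N] [Fintype N] (H : Subgroup N) [hHn : H.Normal]
variable (hC : ∀ n ∈ H, n ≠ 1 → Subgroup.centralizer ({n} : Set N) ≤ H)

open Classical in
/-- The non-principal irreducible characters of a subgroup. -/
def ntIrr : Finset (Cfsg.IrrCharacter H) :=
  Finset.univ.filter fun θ => (θ : H → ℂ) ≠ fun _ => 1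

theorem mem_ntIrr {θ : Cfsg.IrrCharacter H} : θ ∈ ntIrr H ↔ (θ : H → ℂ) ≠ fun _ => 1 := by
  classical
  simp [ntIrr]

open Classical in
theorem degNat_conjChar (x : N) (θ : H → ℂ) : degNat (conjChar H x θ) = degNat θ := by
  have h : conjChar H x θ 1 = θ 1 := by
    rw [conjChar_apply]; congr 1; exact Subtype.ext (by simp)
  simp [degNat, h]

theorem degNat_one_fun (X : Type u) [Group X] [Fintype X] :
    degNat (fun _ : X => (1 : ℂ)) = 1 := by simp [degNat]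

theorem degNat_pos {X : Type u} [Group X] [Fintype X] {θ : X → ℂ} (h : Cfsg.IsIrrCharacter X θ) :
    0 < degNat θ := by
  obtain ⟨n, hn, hn'⟩ := Char.irr_one_pos h
  simpa [degNat, hn'] using hn

theorem degNat_one_iff {X : Type u} [Group X] [Fintype X] {θ : X → ℂ}
    (h : Cfsg.IsIrrCharacter X θ) : degNat θ = 1 ↔ θ 1 = 1 := by
  rw [degNat_eq (Char.isCharacter_of_irr h)]
  exact_mod_cast Iff.rfl

open Classical in
theorem degNat_indFun (θ : Cfsg.IrrCharacter H) :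
    degNat (Cfsg.indFun H (θ : H → ℂ)) = H.index * degNat (θ : H → ℂ) := by
  have h := degNat_eq (isCharacter_indFun H (Char.isCharacter_of_irr θ.2))
  rw [indFun_one_apply, degNat_eq (Char.isCharacter_of_irr θ.2)] at h
  exact_mod_cast h.symm

include hC in
open Classical in
theorem card_fibre {θ : Cfsg.IrrCharacter H} (hθ : θ ∈ ntIrr H) :
    ((ntIrr H).filter fun η : Cfsg.IrrCharacter H =>
      Cfsg.indFun H (η : H → ℂ) = Cfsg.indFun H (θ : H → ℂ)).card = H.index := by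
  have hθ1 := (mem_ntIrr H).1 hθ
  have h := card_conjClass_mul_norm H θ.2
  rw [irr_self (indFun_irr_of_fpf H hC θ.2 hθ1), mul_one] at h
  rw [← (Nat.cast_injective h : (conjClass H (θ : H → ℂ)).card = H.index)]
  refine Finset.card_bij (fun η _ => (η : H → ℂ)) ?_ ?_ ?_
  · intro η hη
    obtain ⟨x, hx⟩ := exists_conj_of_indFun_eq H θ.2 η.2 (Finset.mem_filter.1 hη).2
    exact (mem_conjClass H).2 ⟨x, hx⟩
  · exact fun η _ η' _ e => Subtype.ext e
  · intro ψ hψ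
    obtain ⟨x, rfl⟩ := (mem_conjClass H).1 hψ
    exact ⟨⟨_, conjChar_irr H x θ.2⟩, Finset.mem_filter.2 ⟨(mem_ntIrr H).2 (conjChar_ne_one H hθ1 x),
      indFun_conjChar H _ x⟩, rfl⟩

include hC in
open Classical in
/-- A set of non-principal characters closed under conjugation splits in orbits of size the index. -/
theorem card_eq_index_mul {P : (H → ℂ) → Prop}
    (hP : ∀ θ, Cfsg.IsIrrCharacter H θ → P θ → ∀ x : N, P (conjChar H x θ)) :
    ((ntIrr H).filter fun θ : Cfsg.IrrCharacter H => P (θ : H → ℂ)).card =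
      H.index * (((ntIrr H).filter fun θ : Cfsg.IrrCharacter H => P (θ : H → ℂ)).image
        fun θ : Cfsg.IrrCharacter H => Cfsg.indFun H (θ : H → ℂ)).card := by
  refine (Finset.card_eq_sum_card_image (fun θ : Cfsg.IrrCharacter H => Cfsg.indFun H (θ : H → ℂ))
    _).trans ?_
  rw [Finset.sum_congr rfl (g := fun _ => H.index) (fun φ hφ => ?_), Finset.sum_const, smul_eq_mul,
    mul_comm]
  obtain ⟨θ, hθ, rfl⟩ := Finset.mem_image.1 hφ
  obtain ⟨hθT, hθP⟩ := Finset.mem_filter.1 hθ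
  rw [← card_fibre H hC hθT, Finset.filter_filter]
  refine congrArg Finset.card (Finset.filter_congr fun η _ => ⟨fun h => h.2, fun h => ⟨?_, h⟩⟩)
  obtain ⟨x, hx⟩ := exists_conj_of_indFun_eq H θ.2 η.2 h
  rw [hx]
  exact hP _ θ.2 hθP x

include hC in
open Classical in
/-- An invariant set of non-principal characters is empty or has at least index many members. -/
theorem index_le_card {P : (H → ℂ) → Prop}
    (hP : ∀ θ, Cfsg.IsIrrCharacter H θ → P θ → ∀ x : N, P (conjChar H x θ))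
    (hne : ∃ θ : Cfsg.IrrCharacter H, (θ : H → ℂ) ≠ (fun _ => 1) ∧ P (θ : H → ℂ)) :
    H.index ≤ ((ntIrr H).filter fun θ : Cfsg.IrrCharacter H => P (θ : H → ℂ)).card := by
  obtain ⟨θ, h1, h2⟩ := hne
  rw [card_eq_index_mul H hC hP]
  exact Nat.le_mul_of_pos_right _ (Finset.card_pos.2
    ⟨_, Finset.mem_image_of_mem _ (Finset.mem_filter.2 ⟨(mem_ntIrr H).2 h1, h2⟩)⟩)

include hC in
open Classical in
/-- The squares of the degrees of the induced characters. -/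
theorem sum_image_sq (s : ℕ → Prop) :
    H.index * ∑ χ ∈ ((ntIrr H).filter fun θ : Cfsg.IrrCharacter H =>
        s (degNat (θ : H → ℂ))).image (fun θ : Cfsg.IrrCharacter H => Cfsg.indFun H (θ : H → ℂ)),
        degNat χ ^ 2 =
      H.index ^ 2 * ∑ θ ∈ (ntIrr H).filter (fun θ : Cfsg.IrrCharacter H => s (degNat (θ : H → ℂ))),
        degNat (θ : H → ℂ) ^ 2 := by
  rw [Finset.mul_sum, Finset.mul_sum]
  have hr : ∀ θ : Cfsg.IrrCharacter H, H.index ^ 2 * degNat (θ : H → ℂ) ^ 2 =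
      degNat (Cfsg.indFun H (θ : H → ℂ)) ^ 2 := fun θ => by rw [degNat_indFun, mul_pow]
  simp only [hr]
  rw [Finset.sum_comp (fun χ : N → ℂ => degNat χ ^ 2)
    (fun θ : Cfsg.IrrCharacter H => Cfsg.indFun H (θ : H → ℂ))]
  refine Finset.sum_congr rfl fun φ hφ => ?_
  obtain ⟨θ, hθ, rfl⟩ := Finset.mem_image.1 hφ
  obtain ⟨hθT, hθP⟩ := Finset.mem_filter.1 hθ
  rw [smul_eq_mul]
  congr 1
  rw [← card_fibre H hC hθT, Finset.filter_filter]
  refine congrArg Finset.card (Finset.filter_congr fun η _ => ⟨fun h => ⟨?_, h⟩, fun h => h.2⟩)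
  obtain ⟨x, hx⟩ := exists_conj_of_indFun_eq H θ.2 η.2 h
  rw [hx, degNat_conjChar]
  exact hθP

end Counting

/-- A nontrivial finite nilpotent group has a non-principal linear character. -/
theorem exists_linear_ne_one {X : Type u} [Group X] [Fintype X] [Group.IsNilpotent X] [Nontrivial X] :
    ∃ θ : Cfsg.IrrCharacter X, (θ : X → ℂ) ≠ (fun _ => 1) ∧ degNat (θ : X → ℂ) = 1 := by
  classical
  have hlt := Group.IsSolvable.commutator_lt_top_of_nontrivial (G := X)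
  have h1 : 1 < (commutator X).index := Subgroup.one_lt_index_of_ne_top hlt.ne
  rw [← Char.card_linear_irr] at h1
  haveI := Finite.one_lt_card_iff_nontrivial.1 h1
  obtain ⟨χ, hχ⟩ := exists_ne (⟨⟨fun _ => 1, Char.isIrrCharacter_const_one⟩, rfl⟩ :
    {χ : Cfsg.IrrCharacter X // (χ : X → ℂ) 1 = 1})
  exact ⟨χ.1, fun e => hχ (Subtype.ext (Subtype.ext e)), (degNat_one_iff χ.1.2).2 χ.2⟩

open Classical in
theorem card_linear_filter (X : Type u) [Group X] [Fintype X] :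
    (Finset.univ.filter fun θ : Cfsg.IrrCharacter X => degNat (θ : X → ℂ) = 1).card =
      (commutator X).index := by
  rw [← Char.card_linear_irr, Nat.card_eq_fintype_card, Fintype.card_subtype]
  exact congrArg Finset.card (Finset.filter_congr fun θ _ => degNat_one_iff θ.2)

open Classical in
theorem sum_degNat_sq (X : Type u) [Group X] [Fintype X] :
    ∑ θ : Cfsg.IrrCharacter X, degNat (θ : X → ℂ) ^ 2 = Nat.card X := by
  have h := Char.sum_irr_degree_sq (G := X)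
  have e : ∀ θ : Cfsg.IrrCharacter X, (θ : X → ℂ) 1 = (degNat (θ : X → ℂ) : ℂ) := fun θ =>
    degNat_eq (Char.isCharacter_of_irr θ.2)
  simp only [e] at h
  exact_mod_cast h

theorem degNat_dvd_card {X : Type u} [Group X] [Fintype X] {θ : X → ℂ}
    (h : Cfsg.IsIrrCharacter X θ) : degNat θ ∣ Nat.card X := by
  obtain ⟨d, -, hd, hdvd⟩ := Char.irr_degree_dvd_card h
  rw [degNat_eq (Char.isCharacter_of_irr h)] at hd
  rwa [show degNat θ = d by exact_mod_cast hd]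

open Classical in
/-- In a `p`-group the squares of the degrees below `f` add up to a positive multiple of `f ^ 2`. -/
theorem sq_le_sum_lt {X : Type u} [Group X] [Fintype X] {p m : ℕ} (hp : p.Prime)
    (hX : Nat.card X = p ^ m) {θ : X → ℂ} (hθ : Cfsg.IsIrrCharacter X θ) (h2 : 2 ≤ degNat θ) :
    degNat θ ^ 2 ≤ ∑ η ∈ Finset.univ.filter (fun η : Cfsg.IrrCharacter X =>
      degNat (η : X → ℂ) < degNat θ), degNat (η : X → ℂ) ^ 2 := by
  have hpow : ∀ η : Cfsg.IrrCharacter X, ∃ i, degNat (η : X → ℂ) = p ^ i := fun η => by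
    obtain ⟨i, -, hi⟩ := (Nat.dvd_prime_pow hp).1 (hX ▸ degNat_dvd_card η.2)
    exact ⟨i, hi⟩
  obtain ⟨i, hi⟩ := hpow ⟨θ, hθ⟩
  change degNat θ = p ^ i at hi
  have hsum := sum_degNat_sq X
  have hle : degNat θ ^ 2 ≤ Nat.card X := hsum ▸
    Finset.single_le_sum (f := fun η : Cfsg.IrrCharacter X => degNat (η : X → ℂ) ^ 2)
      (fun η _ => Nat.zero_le _) (Finset.mem_univ (⟨θ, hθ⟩ : Cfsg.IrrCharacter X))
  have hdvd : degNat θ ^ 2 ∣ Nat.card X := by
    rw [hi, ← pow_mul, hX] at hle ⊢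
    exact Nat.pow_dvd_pow p ((Nat.pow_le_pow_iff_right hp.one_lt).1 hle)
  rw [← hsum, ← Finset.sum_filter_add_sum_filter_not Finset.univ
    (fun η : Cfsg.IrrCharacter X => degNat (η : X → ℂ) < degNat θ)] at hdvd
  refine Nat.le_of_dvd (Finset.sum_pos' (fun η _ => Nat.zero_le _)
    ⟨⟨fun _ => 1, Char.isIrrCharacter_const_one⟩, Finset.mem_filter.2 ⟨Finset.mem_univ _, ?_⟩,
      pow_pos (degNat_pos Char.isIrrCharacter_const_one) 2⟩)
    ((Nat.dvd_add_left (Finset.dvd_sum fun η hη => ?_)).1 hdvd)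
  · exact lt_of_lt_of_le (by simp [degNat]) h2
  · obtain ⟨j, hj⟩ := hpow η
    have hge := not_lt.1 (Finset.mem_filter.1 hη).2
    rw [hi, hj] at hge ⊢
    exact pow_dvd_pow_of_dvd (Nat.pow_dvd_pow p ((Nat.pow_le_pow_iff_right hp.one_lt).1 hge)) 2

/-- The splitting of a finite nilpotent group into its `p`-part and the elements of order prime
to `p`. -/
theorem exists_split {X : Type u} [Group X] [Fintype X] [Group.IsNilpotent X] (p : ℕ) [hp : Fact p.Prime] :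
    ∃ (A B : Subgroup X) (Ψ : X ≃* A × B), IsPGroup p A ∧ ¬ p ∣ Nat.card B ∧
      (∀ a : A, ((Ψ.symm (a, 1) : X)) = a) ∧ (∀ b : B, ((Ψ.symm (1, b) : X)) = b) ∧
      Nat.card A * Nat.card B = Nat.card X := by
  obtain ⟨A, B, hB, hcard⟩ := Char.exists_pRegular_subgroup (E := X) p
  have hpow : ∀ a : (A : Subgroup X), ∃ i, orderOf (a : X) = p ^ i := fun a => by
    obtain ⟨i, hi⟩ := IsPGroup.iff_orderOf.1 A.isPGroup' a
    exact ⟨i, by rw [Subgroup.orderOf_coe]; exact hi⟩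
  have hcomm : ∀ (a : (A : Subgroup X)) (b : B), Commute (a : X) b := fun a b => by
    obtain ⟨i, hi⟩ := hpow a
    refine Char.nilpotent_commute_of_coprime ?_
    rw [hi]
    exact Nat.Coprime.pow_left i (hp.out.coprime_iff_not_dvd.2 ((hB _).1 b.2))
  let M : ↥(A : Subgroup X) × ↥B →* X :=
    MonoidHom.noncommCoprod (A : Subgroup X).subtype B.subtype hcomm
  have hMa : ∀ x, M x = (x.1 : X) * (x.2 : X) := fun x => rfl
  have hinj : Function.Injective M := by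
    rw [injective_iff_map_eq_one]
    rintro ⟨a, b⟩ h
    rw [hMa] at h
    have ha : (a : X) = (b : X)⁻¹ := eq_inv_of_mul_eq_one_left h
    obtain ⟨i, hi⟩ := hpow a
    have hnd := (hB _).1 (B.inv_mem b.2)
    rw [← ha, hi] at hnd
    have : i = 0 := by
      by_contra hne
      exact hnd (dvd_pow_self p hne)
    rw [this, pow_zero, orderOf_eq_one_iff] at hi
    rw [hi] at ha
    exact Prod.ext (Subtype.ext hi) (Subtype.ext (inv_eq_one.1 ha.symm))
  have hbij : Function.Bijective M :=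
    (Nat.bijective_iff_injective_and_card _).2 ⟨hinj, by rw [Nat.card_prod]; exact hcard⟩
  refine ⟨A, B, (MulEquiv.ofBijective M hbij).symm, A.isPGroup', ?_, fun a => ?_, fun b => ?_, hcard⟩
  · intro hdvd
    obtain ⟨b, hb⟩ := exists_prime_orderOf_dvd_card' (G := B) p hdvd
    exact (hB b).1 b.2 (by rw [Subgroup.orderOf_coe, hb])
  · rw [MulEquiv.symm_symm, MulEquiv.ofBijective_apply, hMa]; simp
  · rw [MulEquiv.symm_symm, MulEquiv.ofBijective_apply, hMa]; simp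

section Kernel

variable {N : Type u} [Group N] [Fintype N] (H : Subgroup N) [hHn : H.Normal]

theorem conjChar_trivial_on {P : ℕ → Prop} {θ : H → ℂ}
    (h : ∀ n : H, P (orderOf n) → θ n = θ 1) (x : N) :
    ∀ n : H, P (orderOf n) → conjChar H x θ n = conjChar H x θ 1 := by
  intro n hn
  rw [conjChar_eq_comp]
  simp only [map_one]
  refine h _ ?_
  rwa [show orderOf ((MulAut.conjNormal x : MulAut H).toMonoidHom n) = orderOf n from
    MulEquiv.orderOf_eq (MulAut.conjNormal x : MulAut H) n]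

variable (hC : ∀ n ∈ H, n ≠ 1 → Subgroup.centralizer ({n} : Set N) ≤ H) [hnil : Group.IsNilpotent H]

include hC hnil in
open Classical in
set_option maxHeartbeats 1000000 in
/-- The two facts about the product splitting used below. -/
theorem split_facts (hnp : ¬ ∃ p m : ℕ, p.Prime ∧ Nat.card H = p ^ m) (p : ℕ) [hp : Fact p.Prime]
    (hpH : p ∣ Nat.card H) :
    2 * H.index + 1 ≤ (commutator H).index ∧
    ∀ θ : H → ℂ, Cfsg.IsIrrCharacter H θ → p ∣ degNat θ →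
      2 * H.index * degNat θ < ∑ η ∈ (ntIrr H).filter (fun η : Cfsg.IrrCharacter H =>
        degNat (η : H → ℂ) < degNat θ), degNat (η : H → ℂ) ^ 2 := by
  obtain ⟨A, B, Ψ, hA, hB, hΨa, hΨb, hcard⟩ := exists_split (X := H) p
  obtain ⟨m, hm⟩ := IsPGroup.iff_card.1 hA
  haveI hBnt : Nontrivial B := by
    rw [← Finite.one_lt_card_iff_nontrivial]
    by_contra hlt
    have hB1 : Nat.card B = 1 := le_antisymm (not_lt.1 hlt) Nat.card_pos
    rw [hB1, mul_one, hm] at hcard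
    exact hnp ⟨p, m, hp.out, hcard.symm⟩
  haveI hAnt : Nontrivial A := by
    rw [← Finite.one_lt_card_iff_nontrivial]
    by_contra hlt
    have hA1 : Nat.card A = 1 := le_antisymm (not_lt.1 hlt) Nat.card_pos
    rw [hA1, one_mul] at hcard
    exact hB (hcard ▸ hpH)
  let F : Cfsg.IrrCharacter A × Cfsg.IrrCharacter B → Cfsg.IrrCharacter H := fun q =>
    ⟨_, Char.isIrrCharacter_comp_mulEquiv (Char.isIrrCharacter_prodMul q.1.2 q.2.2) Ψ⟩
  have hF : ∀ q (x : H), (F q : H → ℂ) x = (q.1 : A → ℂ) (Ψ x).1 * (q.2 : B → ℂ) (Ψ x).2 :=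
    fun q x => rfl
  have hFd : ∀ q, degNat (F q : H → ℂ) = degNat (q.1 : A → ℂ) * degNat (q.2 : B → ℂ) := fun q => by
    have h := hF q 1
    rw [map_one, Prod.fst_one, Prod.snd_one, degNat_eq (Char.isCharacter_of_irr (F q).2),
      degNat_eq (Char.isCharacter_of_irr q.1.2), degNat_eq (Char.isCharacter_of_irr q.2.2)] at h
    exact_mod_cast h
  have hFsurj : ∀ θ : Cfsg.IrrCharacter H, ∃ q, F q = θ := by
    intro θ
    obtain ⟨α, β, h⟩ := Char.exists_irr_prodMul (Char.isIrrCharacter_comp_mulEquiv θ.2 Ψ.symm)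
    refine ⟨(α, β), Subtype.ext (funext fun x => ?_)⟩
    rw [hF]
    have := congrFun h (Ψ x)
    simpa using this.symm
  have hFinj : ∀ q q', degNat (q.2 : B → ℂ) = 1 → degNat (q'.2 : B → ℂ) = 1 → F q = F q' → q = q' := by
    intro q q' h h' e
    have h1 := (degNat_one_iff q.2.2).1 h
    have h1' := (degNat_one_iff q'.2.2).1 h'
    have key : ∀ (a : A) (b : B), (q.1 : A → ℂ) a * (q.2 : B → ℂ) b =
        (q'.1 : A → ℂ) a * (q'.2 : B → ℂ) b := fun a b => by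
      have := congrFun (congrArg Subtype.val e) (Ψ.symm (a, b))
      simpa [hF] using this
    have ea : q.1 = q'.1 := Subtype.ext (funext fun a => by simpa [h1, h1'] using key a 1)
    refine Prod.ext ea (Subtype.ext (funext fun b => ?_))
    have := key 1 b
    rw [← ea] at this
    exact mul_left_cancel₀ (Char.irr_one_ne_zero q.1.2) this
  let oA : Cfsg.IrrCharacter A := ⟨fun _ => 1, Char.isIrrCharacter_const_one⟩
  let oB : Cfsg.IrrCharacter B := ⟨fun _ => 1, Char.isIrrCharacter_const_one⟩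
  have hoA : degNat (oA : A → ℂ) = 1 := by simp [oA, degNat]
  have hoB : degNat (oB : B → ℂ) = 1 := by simp [oB, degNat]
  -- linear characters trivial on one factor
  let Pr : (H → ℂ) → Prop := fun θ => degNat θ = 1 ∧
    ∀ n : H, (¬ p ∣ orderOf n) → θ n = θ 1
  let Pp : (H → ℂ) → Prop := fun θ => degNat θ = 1 ∧
    ∀ n : H, (∃ k, orderOf n = p ^ k) → θ n = θ 1
  have hPr : ∀ θ, Cfsg.IsIrrCharacter H θ → Pr θ → ∀ x : N, Pr (conjChar H x θ) :=
    fun θ _ h x => ⟨(degNat_conjChar H x θ).trans h.1,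
      conjChar_trivial_on H (P := fun k => ¬ p ∣ k) h.2 x⟩
  have hPp : ∀ θ, Cfsg.IsIrrCharacter H θ → Pp θ → ∀ x : N, Pp (conjChar H x θ) :=
    fun θ _ h x => ⟨(degNat_conjChar H x θ).trans h.1,
      conjChar_trivial_on H (P := fun k => ∃ j, k = p ^ j) h.2 x⟩
  have hordA : ∀ n : H, (Ψ n).2 = 1 → ∃ k, orderOf n = p ^ k := fun n hn => by
    obtain ⟨k, hk⟩ := IsPGroup.iff_orderOf.1 hA (Ψ n).1
    exact ⟨k, by rw [← MulEquiv.orderOf_eq Ψ n, Prod.orderOf, hn, orderOf_one, hk, Nat.lcm_one_right]⟩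
  have hordB : ∀ n : H, (Ψ n).1 = 1 → ¬ p ∣ orderOf n := fun n hn h => by
    rw [← MulEquiv.orderOf_eq Ψ n, Prod.orderOf, hn, orderOf_one, Nat.lcm_one_left] at h
    exact hB (h.trans (orderOf_dvd_natCard _))
  have hordA' : ∀ n : H, (∃ k, orderOf n = p ^ k) → (Ψ n).2 = 1 := fun n ⟨k, hk⟩ => by
    have h : orderOf (Ψ n).2 ∣ p ^ k := by
      rw [← hk, ← MulEquiv.orderOf_eq Ψ n, Prod.orderOf]
      exact Nat.dvd_lcm_right _ _
    exact orderOf_eq_one_iff.1 (Nat.eq_one_of_dvd_coprimes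
      (Nat.Coprime.pow_left k (hp.out.coprime_iff_not_dvd.2 hB)) h (orderOf_dvd_natCard _))
  have hordB' : ∀ n : H, ¬ p ∣ orderOf n → (Ψ n).1 = 1 := fun n hn => by
    obtain ⟨k, hk⟩ := IsPGroup.iff_orderOf.1 hA (Ψ n).1
    rw [← orderOf_eq_one_iff, hk]
    rcases Nat.eq_zero_or_pos k with h0 | h0
    · rw [h0, pow_zero]
    · refine absurd (dvd_trans ?_ ((Prod.orderOf (x := Ψ n)) ▸ Nat.dvd_lcm_left _ _ :
        orderOf (Ψ n).1 ∣ orderOf (Ψ n))) (by rwa [MulEquiv.orderOf_eq])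
      rw [hk]; exact dvd_pow_self p h0.ne'
  obtain ⟨α₁, hα₁, hα₁d⟩ := exists_linear_ne_one (X := A)
  obtain ⟨β₁, hβ₁, hβ₁d⟩ := exists_linear_ne_one (X := B)
  have hFne : ∀ q, q ≠ (oA, oB) → degNat (q.2 : B → ℂ) = 1 → (F q : H → ℂ) ≠ fun _ => 1 := by
    intro q hq hd e
    refine hq (hFinj q (oA, oB) hd hoB (Subtype.ext (funext fun x => ?_)))
    rw [e, hF]; simp [oA, oB]
  have hcr : H.index ≤ ((ntIrr H).filter fun θ : Cfsg.IrrCharacter H => Pr (θ : H → ℂ)).card :=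
    le_of_le_of_eq (index_le_card H hC hPr ⟨F (α₁, oB),
      hFne _ (fun e => hα₁ (congrArg Subtype.val (congrArg Prod.fst e))) hoB,
      by rw [hFd, hα₁d, hoB], fun n hn => by simp [hF, hordB' n hn, oB]⟩) (by congr!)
  have hcp : H.index ≤ ((ntIrr H).filter fun θ : Cfsg.IrrCharacter H => Pp (θ : H → ℂ)).card :=
    le_of_le_of_eq (index_le_card H hC hPp ⟨F (oA, β₁),
      hFne _ (fun e => hβ₁ (congrArg Subtype.val (congrArg Prod.snd e))) hβ₁d,
      by rw [hFd, hβ₁d, hoA], fun n hn => by simp [hF, hordA' n hn, oA]⟩) (by congr!)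
  let U := Finset.univ.filter fun β : Cfsg.IrrCharacter B => degNat (β : B → ℂ) = 1
  have hU : H.index + 1 ≤ U.card := by
    have hmem : oB ∈ U := Finset.mem_filter.2 ⟨Finset.mem_univ _, hoB⟩
    rw [← Finset.card_erase_add_one hmem]
    refine Nat.succ_le_succ (hcp.trans ((Finset.card_le_card (fun θ hθ => ?_)).trans
      (Finset.card_image_le (f := fun β => F (oA, β)))))
    obtain ⟨hθT, hθd, hθp⟩ := Finset.mem_filter.1 hθ
    obtain ⟨⟨α, β⟩, rfl⟩ := hFsurj θ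
    rw [hFd, mul_eq_one] at hθd
    have h1 := (degNat_one_iff α.2).1 hθd.1
    have h2 := (degNat_one_iff β.2).1 hθd.2
    have hα : α = oA := Subtype.ext (funext fun a => by
      have := hθp (Ψ.symm (a, 1)) (hordA _ (by simp))
      simpa [hF, h1, h2, oA] using this)
    refine Finset.mem_image.2 ⟨β, Finset.mem_erase.2 ⟨fun e => (mem_ntIrr H).1 hθT ?_,
      Finset.mem_filter.2 ⟨Finset.mem_univ _, hθd.2⟩⟩, by rw [hα]⟩
    funext x
    rw [hF, hα, e]; simp [oA, oB]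
  refine ⟨?_, ?_⟩
  · rw [← card_linear_filter H]
    have hdisj : Disjoint ((ntIrr H).filter fun θ : Cfsg.IrrCharacter H => Pr (θ : H → ℂ))
        ((ntIrr H).filter fun θ : Cfsg.IrrCharacter H => Pp (θ : H → ℂ)) := by
      rw [Finset.disjoint_left]
      intro θ h1 h2
      obtain ⟨hθT, hθd, hr⟩ := Finset.mem_filter.1 h1
      obtain ⟨-, -, hq⟩ := Finset.mem_filter.1 h2
      obtain ⟨⟨α, β⟩, rfl⟩ := hFsurj θ
      rw [hFd, mul_eq_one] at hθd
      have a1 := (degNat_one_iff α.2).1 hθd.1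
      have a2 := (degNat_one_iff β.2).1 hθd.2
      apply (mem_ntIrr H).1 hθT
      funext x
      have e1 := hq (Ψ.symm ((Ψ x).1, 1)) (hordA _ (by simp))
      have e2 := hr (Ψ.symm (1, (Ψ x).2)) (hordB _ (by simp))
      simp [hF, a1, a2] at e1 e2
      simp [hF, e1, e2]
    have hmem : (⟨fun _ => 1, Char.isIrrCharacter_const_one⟩ : Cfsg.IrrCharacter H) ∈
        Finset.univ.filter fun θ : Cfsg.IrrCharacter H => degNat (θ : H → ℂ) = 1 :=
      Finset.mem_filter.2 ⟨Finset.mem_univ _, by simp [degNat]⟩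
    rw [← Finset.card_erase_add_one hmem]
    refine Nat.succ_le_succ (le_trans ?_ (Finset.card_le_card (s :=
      ((ntIrr H).filter fun θ : Cfsg.IrrCharacter H => Pr (θ : H → ℂ)) ∪
      ((ntIrr H).filter fun θ : Cfsg.IrrCharacter H => Pp (θ : H → ℂ))) fun θ hθ => ?_))
    · rw [Finset.card_union_of_disjoint hdisj]; omega
    · rcases Finset.mem_union.1 hθ with h | h <;> obtain ⟨hT, hd, -⟩ := Finset.mem_filter.1 h <;>
        exact Finset.mem_erase.2 ⟨fun e => (mem_ntIrr H).1 hT (congrArg Subtype.val e),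
          Finset.mem_filter.2 ⟨Finset.mem_univ _, hd⟩⟩
  intro θ₀ hθ₀ hpθ
  obtain ⟨⟨α, β⟩, hq⟩ := hFsurj ⟨θ₀, hθ₀⟩
  have hf : degNat θ₀ = degNat (α : A → ℂ) * degNat (β : B → ℂ) := by
    rw [← hFd (α, β), hq]
  obtain ⟨a, ha⟩ : ∃ a, a = degNat (α : A → ℂ) := ⟨_, rfl⟩
  obtain ⟨b, hb⟩ : ∃ b, b = degNat (β : B → ℂ) := ⟨_, rfl⟩
  rw [← ha, ← hb] at hf
  have hbp : ¬ p ∣ b := fun h => hB (h.trans (hb ▸ degNat_dvd_card β.2))
  have hpa : p ∣ a := ((Nat.Prime.dvd_mul hp.out).1 (hf ▸ hpθ)).resolve_right hbp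
  have ha2 : 2 ≤ a := le_trans hp.out.two_le (Nat.le_of_dvd (ha ▸ degNat_pos α.2) hpa)
  rw [hf]
  let W := (ntIrr H).filter fun η : Cfsg.IrrCharacter H => degNat (η : H → ℂ) < a * b
  show _ < ∑ η ∈ W, degNat (η : H → ℂ) ^ 2
  have he0 : 0 < H.index := Nat.pos_of_ne_zero H.index_ne_zero_of_finite
  by_cases hb1 : b = 1
  · -- the degree is a power of p
    subst hb1
    let V := Finset.univ.filter fun α' : Cfsg.IrrCharacter A => degNat (α' : A → ℂ) < a
    have hV : a ^ 2 ≤ ∑ α' ∈ V, degNat (α' : A → ℂ) ^ 2 := by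
      have := sq_le_sum_lt hp.out hm α.2 (ha ▸ ha2)
      rw [← ha] at this
      exact this
    have hall : Finset.univ.filter (fun η : Cfsg.IrrCharacter H => degNat (η : H → ℂ) < a * 1) =
        insert ⟨fun _ => 1, Char.isIrrCharacter_const_one⟩ W := by
      ext η
      simp only [Finset.mem_filter, Finset.mem_univ, true_and, Finset.mem_insert, W, mem_ntIrr]
      constructor
      · intro h
        by_cases e : (η : H → ℂ) = fun _ => 1
        · exact Or.inl (Subtype.ext e)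
        · exact Or.inr ⟨e, h⟩
      · rintro (rfl | ⟨-, h⟩)
        · show degNat (fun _ : H => (1 : ℂ)) < a * 1
          rw [degNat_one_fun]; omega
        · exact h
    have hge : a ^ 2 * (H.index + 1) ≤ 1 + ∑ η ∈ W, degNat (η : H → ℂ) ^ 2 := by
      calc a ^ 2 * (H.index + 1) ≤ (∑ α' ∈ V, degNat (α' : A → ℂ) ^ 2) * U.card :=
            Nat.mul_le_mul hV hU
        _ = ∑ q ∈ V ×ˢ U, degNat (F q : H → ℂ) ^ 2 := by
            rw [Finset.sum_product, Finset.sum_mul]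
            refine Finset.sum_congr rfl fun α' _ => ?_
            rw [Finset.card_eq_sum_ones, Finset.mul_sum]
            refine Finset.sum_congr rfl fun β' hβ' => ?_
            rw [hFd, (Finset.mem_filter.1 hβ').2, mul_one, mul_one]
        _ = ∑ η ∈ (V ×ˢ U).image F, degNat (η : H → ℂ) ^ 2 :=
            (Finset.sum_image (f := fun η : Cfsg.IrrCharacter H => degNat (η : H → ℂ) ^ 2)
              fun q hq' q' hq'' => hFinj q q' (Finset.mem_filter.1 (Finset.mem_product.1 hq').2).2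
                (Finset.mem_filter.1 (Finset.mem_product.1 hq'').2).2).symm
        _ ≤ ∑ η ∈ insert ⟨fun _ => 1, Char.isIrrCharacter_const_one⟩ W,
              degNat (η : H → ℂ) ^ 2 := by
            rw [← hall]
            refine Finset.sum_le_sum_of_subset fun η hη => ?_
            obtain ⟨q, hqm, rfl⟩ := Finset.mem_image.1 hη
            obtain ⟨h1, h2⟩ := Finset.mem_product.1 hqm
            refine Finset.mem_filter.2 ⟨Finset.mem_univ _, ?_⟩
            rw [hFd, (Finset.mem_filter.1 h2).2, mul_one, mul_one]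
            exact (Finset.mem_filter.1 h1).2
        _ = 1 + ∑ η ∈ W, degNat (η : H → ℂ) ^ 2 := by
            rw [Finset.sum_insert (by simp [W, mem_ntIrr])]
            simp [degNat]
    nlinarith [Nat.mul_le_mul_left H.index (Nat.mul_le_mul_right a ha2), Nat.mul_le_mul ha2 ha2]
  · have hb2 : 2 ≤ b := by have := hb ▸ degNat_pos β.2; omega
    have hab : a ≠ b := fun e => hbp (e ▸ hpa)
    have hsize : ∀ c, (∃ η : Cfsg.IrrCharacter H, (η : H → ℂ) ≠ (fun _ => 1) ∧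
        degNat (η : H → ℂ) = c) →
        H.index * c ^ 2 ≤ ∑ η ∈ (ntIrr H).filter (fun η : Cfsg.IrrCharacter H =>
          degNat (η : H → ℂ) = c), degNat (η : H → ℂ) ^ 2 := by
      intro c hc
      rw [Finset.sum_congr rfl (g := fun _ => c ^ 2) fun η hη => by rw [(Finset.mem_filter.1 hη).2],
        Finset.sum_const, smul_eq_mul]
      exact Nat.mul_le_mul_right _ (le_of_le_of_eq (index_le_card H hC (P := fun θ => degNat θ = c)
        (fun θ _ h x => (degNat_conjChar H x θ).trans h) hc) (by congr!))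
    have hne : ∀ η : Cfsg.IrrCharacter H, 2 ≤ degNat (η : H → ℂ) → (η : H → ℂ) ≠ fun _ => 1 :=
      fun η h e => by rw [e] at h; simp [degNat] at h
    have h1 := hsize 1 ⟨F (oA, β₁),
      hFne _ (fun e => hβ₁ (congrArg Subtype.val (congrArg Prod.snd e))) hβ₁d, by rw [hFd, hoA, hβ₁d]⟩
    have h2 := hsize a ⟨F (α, oB), hne _ (by rw [hFd, hoB, mul_one, ← ha]; exact ha2),
      by rw [hFd, hoB, mul_one, ha]⟩
    have h3 := hsize b ⟨F (oA, β), hne _ (by rw [hFd, hoA, one_mul, ← hb]; exact hb2),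
      by rw [hFd, hoA, one_mul, hb]⟩
    let Z : ℕ → Finset (Cfsg.IrrCharacter H) := fun c =>
      (ntIrr H).filter fun η : Cfsg.IrrCharacter H => degNat (η : H → ℂ) = c
    have hd : ∀ c c', c ≠ c' → Disjoint (Z c) (Z c') := fun c c' h =>
      Finset.disjoint_left.2 fun η h1 h2 =>
        h ((Finset.mem_filter.1 h1).2.symm.trans (Finset.mem_filter.1 h2).2)
    have hle : ∑ η ∈ Z 1 ∪ Z a ∪ Z b, degNat (η : H → ℂ) ^ 2 ≤ ∑ η ∈ W, degNat (η : H → ℂ) ^ 2 := by
      refine Finset.sum_le_sum_of_subset fun η hη => ?_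
      rcases Finset.mem_union.1 hη with h | h
      · rcases Finset.mem_union.1 h with h | h <;> obtain ⟨hT, hd⟩ := Finset.mem_filter.1 h <;>
          refine Finset.mem_filter.2 ⟨hT, ?_⟩ <;> rw [hd] <;> nlinarith
      · obtain ⟨hT, hd⟩ := Finset.mem_filter.1 h
        exact Finset.mem_filter.2 ⟨hT, by rw [hd]; nlinarith⟩
    rw [Finset.sum_union (Finset.disjoint_union_left.2 ⟨hd 1 b (Ne.symm hb1), hd a b hab⟩),
      Finset.sum_union (hd 1 a (by omega))] at hle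
    have hamgm : 2 * (a * b) < 1 + a ^ 2 + b ^ 2 := by nlinarith [two_mul_le_add_sq a b]
    have e1 : H.index * 1 ^ 2 ≤ ∑ η ∈ Z 1, degNat (η : H → ℂ) ^ 2 := h1
    have e2 : H.index * a ^ 2 ≤ ∑ η ∈ Z a, degNat (η : H → ℂ) ^ 2 := h2
    have e3 : H.index * b ^ 2 ≤ ∑ η ∈ Z b, degNat (η : H → ℂ) ^ 2 := h3
    nlinarith [Nat.mul_lt_mul_of_pos_left hamgm he0]

include hC hnil in
open Classical in
/-- The degree bound needed for one step of Feit's extension. -/
theorem feit_weight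
    (hex : ¬ ∃ p : ℕ, p.Prime ∧ (∃ m : ℕ, Nat.card H = p ^ m) ∧ ¬ IsMulCommutative H ∧
      (commutator H).index ≤ 4 * H.index ^ 2 + 1)
    {θ : H → ℂ} (hθ : Cfsg.IsIrrCharacter H θ) (h2 : 2 ≤ degNat θ) :
    2 * H.index * degNat θ < ∑ η ∈ (ntIrr H).filter (fun η : Cfsg.IrrCharacter H =>
      degNat (η : H → ℂ) < degNat θ), degNat (η : H → ℂ) ^ 2 := by
  by_cases hpg : ∃ p m : ℕ, p.Prime ∧ Nat.card H = p ^ m
  · obtain ⟨p, m, hp, hm⟩ := hpg
    have hnc : ¬ IsMulCommutative H := fun h => by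
      have h1 := Char.irr_degree_one_of_comm (G := H) (fun a b => h.1.comm a b) hθ
      rw [← degNat_one_iff hθ] at h1
      omega
    have hbig : 4 * H.index ^ 2 + 1 < (commutator H).index := by
      by_contra h
      exact hex ⟨p, hp, ⟨m, hm⟩, hnc, not_lt.1 h⟩
    have hP := sq_le_sum_lt hp hm hθ h2
    have hL : (commutator H).index ≤ ∑ η ∈ Finset.univ.filter (fun η : Cfsg.IrrCharacter H =>
        degNat (η : H → ℂ) < degNat θ), degNat (η : H → ℂ) ^ 2 := by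
      rw [← card_linear_filter H, Finset.card_eq_sum_ones]
      refine (Finset.sum_le_sum fun η hη => le_of_eq ?_).trans
        (Finset.sum_le_sum_of_subset fun η hη => ?_)
      · rw [(Finset.mem_filter.1 hη).2, one_pow]
      · exact Finset.mem_filter.2 ⟨Finset.mem_univ _, by rw [(Finset.mem_filter.1 hη).2]; omega⟩
    have hall : Finset.univ.filter (fun η : Cfsg.IrrCharacter H => degNat (η : H → ℂ) < degNat θ) =
        insert ⟨fun _ => 1, Char.isIrrCharacter_const_one⟩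
          ((ntIrr H).filter fun η : Cfsg.IrrCharacter H => degNat (η : H → ℂ) < degNat θ) := by
      ext η
      simp only [Finset.mem_filter, Finset.mem_univ, true_and, Finset.mem_insert, mem_ntIrr]
      constructor
      · intro h
        by_cases e : (η : H → ℂ) = fun _ => 1
        · exact Or.inl (Subtype.ext e)
        · exact Or.inr ⟨e, h⟩
      · rintro (rfl | ⟨-, h⟩)
        · show degNat (fun _ : H => (1 : ℂ)) < degNat θ
          rw [degNat_one_fun]; omega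
        · exact h
    rw [hall, Finset.sum_insert (by simp [mem_ntIrr]),
      show degNat (fun _ : H => (1 : ℂ)) ^ 2 = 1 by simp [degNat]] at hP hL
    rcases Nat.lt_or_ge (2 * H.index) (degNat θ) with h | h <;> nlinarith
  · obtain ⟨p, hp, hpf⟩ := Nat.exists_prime_and_dvd (show degNat θ ≠ 1 by omega)
    haveI := Fact.mk hp
    exact (split_facts H hC hpg p (hpf.trans (degNat_dvd_card hθ))).2 θ hθ hpf

include hC hnil in
/-- Apart from the exception the abelianisation is not as small as possible. -/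
theorem linear_count_ne (hH1 : H ≠ ⊥) (he : Nat.card H ≠ H.index + 1)
    (hex : ¬ ∃ p : ℕ, p.Prime ∧ (∃ m : ℕ, Nat.card H = p ^ m) ∧ ¬ IsMulCommutative H ∧
      (commutator H).index ≤ 4 * H.index ^ 2 + 1) :
    (commutator H).index ≠ H.index + 1 := by
  have he0 : 0 < H.index := Nat.pos_of_ne_zero H.index_ne_zero_of_finite
  intro h
  by_cases hpg : ∃ p m : ℕ, p.Prime ∧ Nat.card H = p ^ m
  · obtain ⟨p, m, hp, hm⟩ := hpg
    by_cases hcm : IsMulCommutative H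
    · haveI := hcm
      have hbot : commutator H = ⊥ := by
        rw [commutator_def, Subgroup.commutator_eq_bot_iff_le_centralizer]
        intro a _
        rw [Subgroup.mem_centralizer_iff]
        exact fun b _ => hcm.1.comm b a
      rw [hbot, Subgroup.index_bot] at h
      exact he h
    · exact hex ⟨p, hp, ⟨m, hm⟩, hcm, by rw [h]; nlinarith⟩
  · haveI : Nontrivial H := (Subgroup.nontrivial_iff_ne_bot H).2 hH1
    obtain ⟨p, hp, hpd⟩ := Nat.exists_prime_and_dvd (Finite.one_lt_card (α := H)).ne'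
    haveI := Fact.mk hp
    have := (split_facts H hC hpg p hpd).1
    omega

end Kernel

end Cfsg.Agent.OddChar43
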