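import Cfsg.Agent.OddChar43.FeitFrob
import Cfsg.Agent.OddChar43.FrobData
import Cfsg.Agent.S1535
import Mathlib.GroupTheory.FixedPointFree

/-!
# The Feit-Sibley theorem for a trivial-intersection Frobenius kernel
-/

set_option autoImplicit false
set_option linter.style.haveILetI false
set_option linter.unusedSectionVars false

noncomputable section

open scoped ComplexConjugate BigOperators
open Cfsg.Agent Cfsg.Agent.CharInd

namespace Cfsg.Agent.OddChar43

universe u v

variable {N : Type u} [Group N] [Fintype N] (H : Subgroup N) [hHn : H.Normal]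
variable (hC : ∀ n ∈ H, n ≠ 1 → Subgroup.centralizer ({n} : Set N) ≤ H)

include hC in
/-- A Frobenius kernel with a complement of even order is abelian. -/
theorem kernel_comm_of_even (hH : Odd (Nat.card H)) (hN : ¬ Odd (Nat.card N)) :
    IsMulCommutative H := by
  haveI : Fact (Nat.Prime 2) := ⟨Nat.prime_two⟩
  obtain ⟨t, ht⟩ := exists_prime_orderOf_dvd_card' (G := N) 2
    (by rw [← even_iff_two_dvd]; exact Nat.not_odd_iff_even.1 hN)
  have htH : t ∉ H := fun h => by
    have h2 : 2 ∣ Nat.card H := ht ▸ Subgroup.orderOf_dvd_natCard H h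
    exact (Nat.not_even_iff_odd.2 hH) (even_iff_two_dvd.2 h2)
  let φ : H →* H := (MulAut.conjNormal t : MulAut H).toMonoidHom
  have hφ : MonoidHom.FixedPointFree φ := fun g hg => by
    by_contra hne
    refine htH (hC g g.2 (fun e => hne (Subtype.ext e)) ?_)
    rw [Subgroup.mem_centralizer_singleton_iff]
    have := congrArg Subtype.val hg
    simp only [φ, MulEquiv.coe_toMonoidHom, MulAut.conjNormal_apply] at this
    exact mul_inv_eq_iff_eq_mul.1 this
  have hinv : Function.Involutive φ := fun g => Subtype.ext (by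
    have h2 : t * t = 1 := by rw [← sq, ← ht]; exact pow_orderOf_eq_one t
    simp only [φ, MulEquiv.coe_toMonoidHom, MulAut.conjNormal_apply]
    have h3 : t⁻¹ = t := inv_eq_of_mul_eq_one_right h2
    calc t * (t * (g : N) * t⁻¹) * t⁻¹ = (t * t) * g * (t * t)⁻¹ := by group
      _ = g := by rw [h2]; group)
  exact ⟨⟨fun a b => MonoidHom.FixedPointFree.commute_all_of_involutive hφ hinv a b⟩⟩

include hC in
/-- In the smallest case the kernel is an elementary abelian group. -/
theorem elementary_of_card_eq (hH1 : H ≠ ⊥) (he : Nat.card H = H.index + 1) :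
    ∃ p : ℕ, p.Prime ∧ Cfsg.IsElementaryAbelian p H := by
  classical
  have hkey : ∀ a : H, a ≠ 1 →
      (Subgroup.centralizer ({(a : N)} : Set N) = H ∧ ∀ b : H, b ≠ 1 → IsConj (a : N) b) := by
    intro a ha
    have haN : (a : N) ≠ 1 := fun e => ha (Subtype.ext e)
    have hle := hC a a.2 haN
    have horb : Nat.card (MulAction.orbit (ConjAct N) (a : N)) =
        (Subgroup.centralizer ({(a : N)} : Set N)).index := by
      rw [Nat.card_congr (MulAction.orbitEquivQuotientStabilizer (ConjAct N) (a : N)),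
        ← Subgroup.index, Subgroup.centralizer_eq_comap_stabilizer]
      exact (Subgroup.index_comap_of_surjective (MulAction.stabilizer (ConjAct N) (a : N))
        (ConjAct.toConjAct (G := N)).surjective).symm
    obtain ⟨D, hD⟩ : ∃ D : Set N, D = {y : N | y ∈ H ∧ y ≠ 1} := ⟨_, rfl⟩
    have hsub : MulAction.orbit (ConjAct N) (a : N) ⊆ D := by
      rintro y ⟨g, rfl⟩
      rw [hD]
      show g • (a : N) ∈ H ∧ g • (a : N) ≠ 1
      rw [ConjAct.smul_def]
      exact ⟨hHn.conj_mem _ a.2 _, fun e => haN (conj_eq_one_iff.1 e)⟩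
    have hDcard : D.ncard = H.index := by
      have hd : D = (H : Set N) \ {1} := by rw [hD]; ext y; simp
      rw [hd, Set.ncard_diff_singleton_of_mem H.one_mem,
        show (H : Set N).ncard = Nat.card H from rfl, he, Nat.add_sub_cancel]
    have hge : H.index ≤ (Subgroup.centralizer ({(a : N)} : Set N)).index :=
      Subgroup.index_antitone hle
    have hle' : (MulAction.orbit (ConjAct N) (a : N)).ncard ≤ D.ncard :=
      Set.ncard_le_ncard hsub (Set.toFinite _)
    rw [Nat.card_coe_set_eq] at horb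
    refine ⟨le_antisymm hle ?_, fun b hb => ?_⟩
    · rcases hle.eq_or_lt with e | e
      · exact e.ge
      · have := Subgroup.index_strictAnti e
        omega
    · have heq : MulAction.orbit (ConjAct N) (a : N) = D :=
        Set.eq_of_subset_of_ncard_le hsub (by omega) (Set.toFinite _)
      have hb' : (b : N) ∈ D := by rw [hD]; exact ⟨b.2, fun e => hb (Subtype.ext e)⟩
      rw [← heq] at hb'
      obtain ⟨g, hg⟩ := hb'
      exact isConj_iff.2 ⟨ConjAct.ofConjAct g, hg⟩
  haveI : Nontrivial H := (Subgroup.nontrivial_iff_ne_bot H).2 hH1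
  obtain ⟨p, hp, hpd⟩ := Nat.exists_prime_and_dvd (Finite.one_lt_card (α := H)).ne'
  haveI := Fact.mk hp
  obtain ⟨a, ha⟩ := exists_prime_orderOf_dvd_card' (G := H) p hpd
  have ha1 : a ≠ 1 := fun e => hp.ne_one (by rw [← ha, e, orderOf_one])
  refine ⟨p, hp, ⟨⟨fun x y => ?_⟩⟩, fun y hy => ?_⟩
  · by_cases hx : x = 1
    · subst hx; simp
    · have hy : (y : N) ∈ Subgroup.centralizer ({(x : N)} : Set N) := by rw [(hkey x hx).1]; exact y.2
      exact Subtype.ext (Subgroup.mem_centralizer_singleton_iff.1 hy).symm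
  · by_cases hy1 : y = 1
    · subst hy1; simp
    · obtain ⟨g, hg⟩ := isConj_iff.1 ((hkey a ha1).2 ⟨y, hy⟩ (fun e => hy1 (congrArg Subtype.val e)))
      rw [← show g * (a : N) * g⁻¹ = y from hg, conj_pow,
        show (a : N) ^ p = 1 by rw [← ha, ← Subgroup.orderOf_coe]; exact pow_orderOf_eq_one _]
      simp

/-- The irreducible characters not containing `H` in the kernel. -/
def kerFree : Set (N → ℂ) := {χ : N → ℂ | Cfsg.IsIrrCharacter N χ ∧ ∃ h ∈ H, χ h ≠ χ 1}

include hC in
theorem kerFree_eq_iia : kerFree H = Cfsg.inducedIrrAbove H ⊥ := by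
  classical
  apply Set.Subset.antisymm
  · rintro χ ⟨hχ, hker⟩
    obtain ⟨θ, hθ, hne, rfl⟩ := exists_eq_indFun_of_fpf H hC hχ hker
    exact iia_bot_mem H hθ hne
  · rintro χ ⟨θ, hθ, hne, -, rfl⟩
    haveI : Fintype H := Fintype.ofFinite H
    have hi := indFun_irr_of_fpf H hC hθ hne
    refine ⟨hi, ?_⟩
    by_contra hk
    push Not at hk
    have h1 := irr_self hi
    rw [classInner_indFun_right H _ (Char.irr_isClassFunction hi)] at h1
    have hres : (fun n : H => Cfsg.indFun H θ n) =
        (Cfsg.indFun H θ 1) • fun _ : H => (1 : ℂ) := funext fun n => by simpa using hk n n.2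
    rw [hres, CharInd.classInner_smul_left, irr_ne Char.isIrrCharacter_const_one hθ (Ne.symm hne),
      mul_zero] at h1
    exact zero_ne_one h1

include hC in
/-- In the smallest case there is only one such character. -/
theorem card_kerFree_eq_one (hH1 : H ≠ ⊥) (he : Nat.card H = H.index + 1) :
    Nat.card {χ : N → ℂ // χ ∈ kerFree H} = 1 := by
  classical
  haveI : Fintype H := Fintype.ofFinite H
  obtain ⟨p, -, hcomm, -⟩ := elementary_of_card_eq H hC hH1 he
  have himg : ((((ntIrr H).filter fun θ : Cfsg.IrrCharacter H => degNat (θ : H → ℂ) = 1).image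
      fun θ : Cfsg.IrrCharacter H => Cfsg.indFun H (θ : H → ℂ)) : Set (N → ℂ)) = kerFree H := by
    rw [kerFree_eq_iia H hC]
    apply Set.Subset.antisymm
    · intro χ hχ
      obtain ⟨θ, hθ, rfl⟩ := Finset.mem_image.1 hχ
      exact iia_bot_mem H θ.2 ((mem_ntIrr H).1 (Finset.mem_filter.1 hθ).1)
    · rintro χ ⟨θ, hθ, hne, -, rfl⟩
      exact Finset.mem_image.2 ⟨⟨θ, hθ⟩, Finset.mem_filter.2 ⟨(mem_ntIrr H).2 hne,
        (degNat_one_iff hθ).2 (Char.irr_degree_one_of_comm (fun a b => hcomm.1.comm a b) hθ)⟩, rfl⟩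
  have hbot : commutator H = ⊥ := by
    rw [commutator_def, Subgroup.commutator_eq_bot_iff_le_centralizer]
    intro a _
    rw [Subgroup.mem_centralizer_iff]
    exact fun b _ => hcomm.1.comm b a
  have hlin := card_linear_filter H
  rw [hbot, Subgroup.index_bot, he] at hlin
  have hmem : (⟨fun _ => 1, Char.isIrrCharacter_const_one⟩ : Cfsg.IrrCharacter H) ∈
      Finset.univ.filter fun θ : Cfsg.IrrCharacter H => degNat (θ : H → ℂ) = 1 :=
    Finset.mem_filter.2 ⟨Finset.mem_univ _, degNat_one_fun H⟩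
  rw [← Finset.card_erase_add_one hmem] at hlin
  have hT : ((ntIrr H).filter fun θ : Cfsg.IrrCharacter H => degNat (θ : H → ℂ) = 1).card = H.index := by
    rw [← Nat.add_right_cancel hlin]
    congr 1
    ext θ
    simp [mem_ntIrr, Subtype.ext_iff]
  have hc : ((ntIrr H).filter fun θ : Cfsg.IrrCharacter H => degNat (θ : H → ℂ) = 1).card =
      H.index * (((ntIrr H).filter fun θ : Cfsg.IrrCharacter H => degNat (θ : H → ℂ) = 1).image
        fun θ : Cfsg.IrrCharacter H => Cfsg.indFun H (θ : H → ℂ)).card := by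
    convert card_eq_index_mul H hC (P := fun θ => degNat θ = 1)
      (fun θ _ h x => (degNat_conjChar H x θ).trans h)
  rw [hT] at hc
  have h1 := Nat.eq_of_mul_eq_mul_left (Nat.pos_of_ne_zero H.index_ne_zero_of_finite)
    (hc.symm.trans (mul_one _).symm)
  rw [show {χ : N → ℂ // χ ∈ kerFree H} = ↥(kerFree H) from rfl, ← himg, Nat.card_coe_set_eq,
    Set.ncard_coe_finset, h1]

section InGroup

variable {G : Type v} [Group G] [Fintype G] (L₀ : Subgroup G) [Fintype L₀] (K : Subgroup L₀)
  [K.Normal]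

/-- Feit and Sibley. -/
theorem feit_sibley (hnil : Group.IsNilpotent K) (hK1 : K ≠ ⊥) (hKL : K < ⊤)
    (hC : ∀ n ∈ K, n ≠ 1 → Subgroup.centralizer ({n} : Set L₀) ≤ K) (hTI : KerTI L₀ K)
    (hN : Subgroup.normalizer (K.map L₀.subtype : Set G) = L₀) :
    (Nat.card K = K.index + 1) ∨
      ((∃ m : ℕ, Nat.card K = 2 ^ m) ∧ (commutator K).index < 4 * K.index ^ 2) ∨
      Cfsg.IsCoherent (kerFree K) {1}ᶜ (fun α : L₀ → ℂ => Cfsg.indFun L₀ α) := by
  classical
  by_cases he : Nat.card K = K.index + 1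
  · exact Or.inl he
  refine Or.inr ?_
  have hiso := ti_isometry L₀ K (K.map L₀.subtype : Set G) (mem_map_coe L₀ K) hTI
  rw [← kerFree_eq_iia K hC] at hiso
  rcases S1535.result (N := L₀) (G := G) K hK1 hKL.ne hC he (fun α : L₀ → ℂ => Cfsg.indFun L₀ α) hiso
    (fun α hα => CharInd.indFun_one_eq_zero L₀ (mem_zspanOn_one.1 hα).2) with h | ⟨p, hp, ⟨m, hm⟩, hnc, hle⟩
  · exact Or.inr h
  have hcm : ⁅K, K⁆.subgroupOf K = commutator K := by
    have e : (commutator K).map K.subtype = ⁅K, K⁆ := by
      rw [commutator_def, Subgroup.map_commutator, ← MonoidHom.range_eq_map, Subgroup.range_subtype]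
    rw [← e, Subgroup.subgroupOf, Subgroup.comap_map_eq_self_of_injective K.subtype_injective]
  rw [hcm] at hle
  by_cases hp2 : p = 2
  · subst hp2
    refine Or.inl ⟨⟨m, hm⟩, ?_⟩
    obtain ⟨j, -, hj⟩ := (Nat.dvd_prime_pow hp).1 (hm ▸ (commutator K).index_dvd_card)
    have he1 : K.index ≠ 1 := fun e => hKL.ne (Subgroup.index_eq_one.1 e)
    have hdvd : K.index ∣ (commutator K).index - 1 := by
      have hcount := card_eq_index_mul K hC (P := fun θ => degNat θ = 1)
        (fun θ _ h x => (degNat_conjChar K x θ).trans h)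
      have hmem : (⟨fun _ => 1, Char.isIrrCharacter_const_one⟩ : Cfsg.IrrCharacter K) ∈
          Finset.univ.filter fun θ : Cfsg.IrrCharacter K => degNat (θ : K → ℂ) = 1 :=
        Finset.mem_filter.2 ⟨Finset.mem_univ _, degNat_one_fun K⟩
      have hlin := card_linear_filter K
      rw [← Finset.card_erase_add_one hmem] at hlin
      rw [← hlin, Nat.add_sub_cancel]
      refine ⟨_, (Eq.trans ?_ hcount)⟩
      congr 1
      ext θ
      simp [mem_ntIrr, Subtype.ext_iff]
    rw [hj] at hle hdvd ⊢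
    rcases Nat.eq_zero_or_pos j with rfl | hj0
    · rw [pow_zero]
      have := Nat.pos_of_ne_zero K.index_ne_zero_of_finite
      nlinarith
    · have heven : 2 ∣ 2 ^ j := dvd_pow_self 2 hj0.ne'
      rcases Nat.lt_or_ge (2 ^ j) (4 * K.index ^ 2) with h | h
      · exact h
      · exfalso
        have heq : 2 ^ j = 4 * K.index ^ 2 := by omega
        have hd2 : K.index ∣ 2 ^ j := heq ▸ dvd_mul_of_dvd_right (dvd_pow_self _ two_ne_zero) _
        have h1 : 1 ≤ 2 ^ j := Nat.one_le_pow _ _ two_pos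
        have := Nat.dvd_sub hd2 hdvd
        rw [Nat.sub_sub_self h1] at this
        exact he1 (Nat.dvd_one.1 this)
  · refine Or.inr ?_
    have hoddK : Odd (Nat.card K) := hm ▸ (hp.odd_of_ne_two hp2).pow
    have hodd : Odd (Nat.card L₀) := by
      by_contra h
      exact hnc (kernel_comm_of_even K hC hoddK h)
    rw [kerFree_eq_iia K hC]
    exact frob_ti_coherent L₀ K hnil hodd hK1 hKL hC hTI hN

end InGroup

section FromG

variable {G : Type v} [Group G] [Fintype G] (K : Subgroup G)

theorem map_kernel_eq :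
    (K.subgroupOf (Subgroup.normalizer (K : Set G))).map
      (Subgroup.normalizer (K : Set G)).subtype = K :=
  Subgroup.map_subgroupOf_eq_of_le Subgroup.le_normalizer

theorem kernel_hyps (hTI : Cfsg.IsTISubset (K : Set G))
    (hlt : K < Subgroup.normalizer (K : Set G))
    (hC : ∀ k ∈ K, k ≠ 1 → Subgroup.centralizer ({k} : Set G) ≤ K) :
    (K.subgroupOf (Subgroup.normalizer (K : Set G)) < ⊤) ∧
    (∀ n ∈ K.subgroupOf (Subgroup.normalizer (K : Set G)), n ≠ 1 →
      Subgroup.centralizer ({n} : Set (Subgroup.normalizer (K : Set G))) ≤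
        K.subgroupOf (Subgroup.normalizer (K : Set G))) ∧
    KerTI (Subgroup.normalizer (K : Set G)) (K.subgroupOf (Subgroup.normalizer (K : Set G))) := by
  refine ⟨lt_top_iff_ne_top.2 fun h => hlt.not_ge (Subgroup.subgroupOf_eq_top.1 h), ?_, ?_⟩
  · intro n hn hn1 x hx
    rw [Subgroup.mem_subgroupOf] at hn ⊢
    refine hC n hn (fun e => hn1 (Subtype.ext e)) ?_
    rw [Subgroup.mem_centralizer_singleton_iff] at hx ⊢
    exact congrArg Subtype.val hx
  · intro g hg t ht h
    rw [map_kernel_eq K] at ht h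
    exact hTI g hg t ht h

theorem subgroupOf_ne_bot (hK1 : K ≠ ⊥) : K.subgroupOf (Subgroup.normalizer (K : Set G)) ≠ ⊥ := by
  intro h
  exact hK1 (by rw [← map_kernel_eq K, h, Subgroup.map_bot])

theorem card_subgroupOf_normalizer :
    Nat.card (K.subgroupOf (Subgroup.normalizer (K : Set G))) = Nat.card K :=
  Nat.card_congr (Subgroup.subgroupOfEquivOfLe Subgroup.le_normalizer).toEquiv

theorem elementary_of_subgroupOf {p : ℕ}
    (h : Cfsg.IsElementaryAbelian p (K.subgroupOf (Subgroup.normalizer (K : Set G)))) :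
    Cfsg.IsElementaryAbelian p K := by
  refine ⟨⟨⟨fun a b => ?_⟩⟩, fun a ha => ?_⟩
  · have := h.1.1.comm ⟨⟨a, Subgroup.le_normalizer a.2⟩, a.2⟩ ⟨⟨b, Subgroup.le_normalizer b.2⟩, b.2⟩
    exact Subtype.ext (congrArg (fun t => ((t : Subgroup.normalizer (K : Set G)) : G))
      (congrArg Subtype.val this))
  · exact congrArg Subtype.val (h.2 ⟨a, Subgroup.le_normalizer ha⟩ ha)

end FromG

end Cfsg.Agent.OddChar43
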